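/-
The checks on the tables of the ten-dimensional module in a double cover of U6(2).
-/
import Cfsg.Agent.Lib.CosetEnum.U62Thompson.Data
import Cfsg.Agent.Lib.CosetEnum.U62Mult.Checks
import Cfsg.Agent.Lib.CosetEnum.Fi23Class.Double

set_option autoImplicit false
set_option maxRecDepth 1000000

namespace CfsgLib.CosetEnum.U62Thompson

open Fi22Pair (eqW ltW)

/-- A bit. -/
def bit (m i : ℕ) : Bool := Nat.beq (Nat.shiftRight m i % 2) 1

/-- The value of a list of rows on a vector. -/
def apR : List ℕ → ℕ → ℕ
  | [], _ => 0
  | r :: L, v => Nat.xor (bif Nat.beq (v % 2) 1 then r else 0) (apR L (v / 2))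

/-- One of the ten transpositions. -/
def bW (i : ℕ) : List ℕ := bWs.getD i []

/-- The product selected by a mask among the first `n`. -/
def owN : ℕ → ℕ → List ℕ
  | 0, _ => []
  | n + 1, m => owN n m ++ bif bit m n then bW n else []

/-- The product selected by a mask. -/
def ow (m : ℕ) : List ℕ := owN 10 m

/-- A normalising word. -/
def gW (k : ℕ) : List ℕ := gWs.getD k []

/-- The rows of a normalising word. -/
def gR (k : ℕ) : List ℕ := gRows.getD k []

/-- A word of the complement. -/
def sW (i : ℕ) : List ℕ := (seqs.getD i []).flatMap fun k => gW (5 + k)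

/-- The action of an element of the complement. -/
def sR (i : ℕ) : List ℕ := sRows.getD i []

/-- The word read in Fi23, corrected by the central transposition. -/
def tw (w : List ℕ) : List ℕ := w.map Fi23Class.emb ++ bif Nat.beq (w.length % 2) 1 then Fi23Class.zw else []

/-- The word fixes the test point. -/
noncomputable def fixq (w : List ℕ) : Bool := Nat.beq (runT Fi31671.table 10 (tw w).reverse 1) 1

/-- Two words agree in the cover up to the given power of the central element and elements of order three. -/
noncomputable def okE (u v : List ℕ) (b : Bool) : Bool := eqW u v && (fixq (u ++ v.reverse) == !b)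

/-- A word commutes with the first transposition. -/
noncomputable def okSt (w : List ℕ) : Bool := ltW w && eqW (w ++ [0]) ([0] ++ w)

noncomputable def fBasic : Bool :=
  ((List.range 10).all fun i => okSt (bW i) && okE (bW i ++ bW i) [] false) &&
  ((List.range 10).all fun i => (List.range i).all fun j => okE (bW i ++ bW j) (bW j ++ bW i) false) &&
  ((List.range 9).all fun k => okSt (gW k)) && !(fixq (Fi22Mult.spiderW ++ Fi22Mult.armW))

noncomputable def fInj : Bool :=
  (List.range 1023).all fun m => !(Nat.beq (runT Fi3510.table 9 (ow (m + 1)).reverse 3507) 3507)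

noncomputable def fRow (k : ℕ) : Bool :=
  Nat.beq (gR k).length 9 && (List.range 9).all fun i => Nat.blt ((gR k).getD i 0) 2048 &&
    okE (gW k ++ bW i ++ (gW k).reverse) (ow ((gR k).getD i 0 % 1024)) (bit ((gR k).getD i 0) 10)

/-- The reduction of a row for the cover with given images of the two central involutions. -/
def red (a b : Bool) (r : ℕ) : ℕ := r % 512 + bif xor (a && bit r 9) (b && bit r 10) then 512 else 0

/-- The rows in a double cover. -/
def kR (a b : Bool) (k : ℕ) : List ℕ := (gR k).map (red a b) ++ [512]

/-- The action of an element of the complement in a double cover. -/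
def kS (a b : Bool) (i v : ℕ) : ℕ := (seqs.getD i []).foldr (fun k y => apR (kR a b (5 + k)) y) v

/-- The action of an element of the complement modulo the centre. -/
def lS (i v : ℕ) : ℕ := (seqs.getD i []).foldr (fun k y => apR ((gR (5 + k)).map (· % 512)) y) v

noncomputable def fSeq : Bool :=
  Nat.beq seqs.length 64 && (Nat.beq sRows.length 64 && seqs.all fun s => s.all fun k => Nat.blt k 4) &&
  Nat.beq (seqs.getD 0 [7]).length 0 &&
  (List.range 64).all fun i => Nat.beq (sR i).length 9 &&
    (List.range 9).all fun j => Nat.beq ((sR i).getD j 0) (lS i (2 ^ j)) && Nat.blt ((sR i).getD j 0) 512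

/-- The product of a generator and an element of the complement. -/
def mEnt (k i : ℕ) : ℕ × ℕ := (mTab.getD k []).getD i (0, 0)

noncomputable def fClosed (k : ℕ) : Bool :=
  (List.range 64).all fun i => Nat.blt (mEnt k i).1 1024 && Nat.blt (mEnt k i).2 64 &&
    eqW (gW (5 + k) ++ sW i) (ow (mEnt k i).1 ++ sW (mEnt k i).2)

/-- Equality of two lists of numbers. -/
def leq : List ℕ → List ℕ → Bool
  | [], [] => true
  | a :: L, b :: M => Nat.beq a b && leq L M
  | _, _ => false

noncomputable def fDistinct : Bool :=
  (List.range 64).all fun i => (List.range i).all fun j => !(leq (sR i) (sR j))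

/-- The composite of two elements of the complement. -/
def sComp (i j : ℕ) : List ℕ := (sR j).map (apR (sR i))

/-- The elements of order at most two. -/
def sInv (i : ℕ) : Bool := leq (sComp i i) ((List.range 9).map (2 ^ ·))

/-- Two elements commute. -/
def sCom (i j : ℕ) : Bool := leq (sComp i j) (sComp j i)

/-- The number of fixed vectors. -/
noncomputable def nFix (i : ℕ) : ℕ := (List.range 512).countP fun v => Nat.beq (apR (sR i) v) v

/-- The number of common fixed vectors. -/
noncomputable def nFix2 (i j : ℕ) : ℕ :=
  (List.range 512).countP fun v => Nat.beq (apR (sR i) v) v && Nat.beq (apR (sR j) v) v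

noncomputable def fElem : Bool :=
  Nat.beq maxEl.length 2 && (maxEl.all fun L => Nat.beq L.length 16) &&
  (List.range 64).all fun i => !(sInv i) || ((Nat.beq i 0 || Nat.ble (nFix i) 32) &&
    (maxEl.any fun L => L.contains i) &&
    (List.range 64).all fun j => !(sInv j) || !(sCom i j) ||
      ((maxEl.any fun L => L.contains i && L.contains j) &&
        (Nat.beq i 0 || Nat.beq j 0 || Nat.beq i j || Nat.ble (nFix2 i j) 16)))

noncomputable def fSplit : Bool :=
  (List.range 64).all fun i => !(sInv i) || Nat.beq i 0 || invs.any fun e => Nat.beq e.1 i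

noncomputable def fInvol (n : ℕ) : Bool :=
  let e := invs.getD n (0, 0, [])
  (eqW (sW e.1 ++ sW e.1) (ow e.2.1) || eqW (sW e.1 ++ sW e.1) (ow (e.2.1 + 512))) && Nat.blt e.2.1 512 &&
  (e.2.2.all fun r => Nat.blt r.1 512 && Nat.blt r.2.2 1024 && okSt r.2.1 &&
    eqW (r.2.1 ++ (ow r.1 ++ sW e.1) ++ r.2.1.reverse) (ow r.2.2)) &&
  (List.range 512).all fun v => !(Nat.beq (Nat.xor (Nat.xor v (apR (sR e.1) v)) e.2.1) 0) ||
    e.2.2.any fun r => (List.range 512).any fun c => Nat.beq (Nat.xor (Nat.xor r.1 c) (apR (sR e.1) c)) v

/-- The index of a cover. -/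
def kIdx (a b : Bool) : ℕ := bif a then (bif b then 2 else 0) else 1

/-- One orbit. -/
def oMask (a b : Bool) (k : ℕ) : ℕ := (oMasks.getD (kIdx a b) []).getD k 0

/-- Its representative. -/
def oRep (a b : Bool) (k : ℕ) : ℕ := (oReps.getD (kIdx a b) []).getD k 0

/-- Follow a coded path. -/
def follow (a b : Bool) : ℕ → ℕ → ℕ → Option ℕ
  | 0, c, v => bif Nat.beq c 0 then some v else none
  | n + 1, c, v => bif Nat.beq c 0 then some v else
      bif Nat.blt (c % 16 - 1) 9 then (follow a b n (c / 16) v).map (apR (kR a b (c % 16 - 1))) else none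

/-- The path of a vector leads to it from the representative of its orbit, and the orbits are disjoint. -/
def okPath (a b : Bool) (m code : ℕ) : Bool :=
  (List.range 7).all (fun k => bit (oMask a b k) m == Nat.beq k (code % 8)) && Nat.blt (code % 8) 7 &&
  match follow a b 5 (code / 8) (oRep a b (code % 8)) with
  | some v => Nat.beq v m
  | none => false

noncomputable def fOrbit (a b : Bool) : Bool :=
  Nat.beq (oPaths.getD (kIdx a b) []).length 1024 &&
  (((List.range 1024).zip (oPaths.getD (kIdx a b) [])).all fun e => okPath a b e.1 e.2) &&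
  Nat.beq (oRep a b 0) 0 && Nat.beq (oRep a b 1) 512 && (List.range 7).all fun k => Nat.blt (oRep a b k) 1024

/-- A union of orbits containing the central involution. -/
def omg (a b : Bool) (o : ℕ) : ℕ :=
  (List.range 5).foldl (fun acc k => bif bit o k then Nat.lor acc (oMask a b (k + 2)) else acc) (oMask a b 1)

/-- The number of vectors of the set whose sum with the given one is again in the set. -/
def lam (M x : ℕ) : ℕ := (List.range 1024).countP fun y => bit M y && bit M (Nat.xor x y)

noncomputable def fLam (a b : Bool) : Bool :=
  (List.range 32).all fun o => Nat.beq o 0 || Nat.beq o 31 ||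
    (Nat.beq ((List.range 1024).countP fun y => bit (omg a b o) y) 22) ||
    (List.range 5).any fun k => bit o k && !(Nat.beq (lam (omg a b o) 512) (lam (omg a b o) (oRep a b (k + 2))))

/-- The fixed point compared with the central involution. -/
def xPt (a b : Bool) : ℕ := xPts.getD (kIdx a b) 0

/-- The number of commutators equal to a vector. -/
noncomputable def nCom (a b : Bool) (x i : ℕ) : ℕ :=
  (List.range 1024).countP fun y => Nat.beq (Nat.xor (kS a b i y) y) x

noncomputable def fFixed (a b : Bool) : Bool :=
  Nat.blt (xPt a b) 1024 && bit (omg a b 31) (xPt a b) && !(Nat.beq (xPt a b) 512) &&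
  ((List.range 4).all fun k => Nat.beq (apR (kR a b (5 + k)) (xPt a b)) (xPt a b)) &&
  !(Nat.beq ((List.range 64).map (nCom a b 512)).sum ((List.range 64).map (nCom a b (xPt a b))).sum)

end CfsgLib.CosetEnum.U62Thompson
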