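/-
Vectors over two elements coded by numbers.
-/
import Cfsg.Agent.Lib.CosetEnum.U62Thompson.Defs

set_option autoImplicit false

namespace CfsgLib.CosetEnum.U62Thompson

theorem bit_eq (m i : ℕ) : bit m i = m.testBit i := by
  show Nat.beq ((m >>> i) % 2) 1 = _
  rw [Nat.shiftRight_eq_div_pow, Nat.testBit_eq_decide_div_mod_eq]
  rcases Nat.mod_two_eq_zero_or_one (m / 2 ^ i) with e | e <;> rw [e] <;> decide

theorem bit_xor (m k i : ℕ) : bit (Nat.xor m k) i = xor (bit m i) (bit k i) := by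
  rw [bit_eq, bit_eq, bit_eq]
  exact Nat.testBit_xor ..

theorem bit_pow (i j : ℕ) : bit (2 ^ i) j = decide (i = j) := by
  rw [bit_eq, Nat.testBit_two_pow]

theorem bit_zero (i : ℕ) : bit 0 i = false := by rw [bit_eq]; simp

theorem bit_mod (m n i : ℕ) : bit (m % 2 ^ n) i = (decide (i < n) && bit m i) := by
  rw [bit_eq, bit_eq, Nat.testBit_mod_two_pow]

theorem xor_lt {m k n : ℕ} (hm : m < 2 ^ n) (hk : k < 2 ^ n) : Nat.xor m k < 2 ^ n := Nat.xor_lt_two_pow hm hk

theorem lin_ext {M : Type*} (op : M → M → M) (f g : ℕ → M) (hf : ∀ x y, f (Nat.xor x y) = op (f x) (f y))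
    (hg : ∀ x y, g (Nat.xor x y) = op (g x) (g y)) (h0 : f 0 = g 0) :
    ∀ n, (∀ i < n, f (2 ^ i) = g (2 ^ i)) → ∀ v < 2 ^ n, f v = g v := by
  intro n
  induction n with
  | zero => intro _ v hv; rw [pow_zero] at hv; rw [show v = 0 by omega]; exact h0
  | succ n ih =>
    intro h v hv
    have ihn := ih fun i hi => h i (by omega)
    by_cases hv' : v < 2 ^ n
    · exact ihn v hv'
    have e : v = Nat.xor (2 ^ n) (v - 2 ^ n) := by
      show v = 2 ^ n ^^^ (v - 2 ^ n)
      rw [pow_succ] at hv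
      apply Nat.eq_of_testBit_eq
      intro i
      have hv2 : v - 2 ^ n < 2 ^ n := by omega
      rw [Nat.testBit_xor, Nat.testBit_two_pow]
      rcases lt_trichotomy i n with hi | rfl | hi
      · have hh : v = 2 ^ n + (v - 2 ^ n) := by omega
        conv_lhs => rw [hh, Nat.testBit_two_pow_add_gt hi]
        simp [Nat.ne_of_gt hi]
      · have hh : v = 2 ^ i + (v - 2 ^ i) := by omega
        conv_lhs => rw [hh, Nat.testBit_two_pow_add_eq]
        simp [Nat.testBit_lt_two_pow hv2]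
      · have hle : 2 ^ (n + 1) ≤ 2 ^ i := Nat.pow_le_pow_right (by norm_num) hi
        rw [Nat.testBit_lt_two_pow (by rw [pow_succ] at hle; omega), Nat.testBit_lt_two_pow (by rw [pow_succ] at hle; omega)]
        simp [Nat.ne_of_lt hi]
    rw [e, hf, hg, h n (by omega), ihn _ (by rw [pow_succ] at hv; omega)]

theorem apR_zero : ∀ L : List ℕ, apR L 0 = 0
  | [] => rfl
  | r :: L => by
    rw [apR, Nat.zero_div, apR_zero L]
    show Nat.xor 0 0 = 0
    decide

theorem xor_four (a b c x y : ℕ) (h : c = Nat.xor a b) :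
    Nat.xor c (Nat.xor x y) = Nat.xor (Nat.xor a x) (Nat.xor b y) := by
  subst h
  show (a ^^^ b) ^^^ (x ^^^ y) = (a ^^^ x) ^^^ (b ^^^ y)
  rw [Nat.xor_assoc, ← Nat.xor_assoc b, Nat.xor_comm b x, Nat.xor_assoc x b, ← Nat.xor_assoc]

theorem apR_xor : ∀ (L : List ℕ) (v w : ℕ), apR L (Nat.xor v w) = Nat.xor (apR L v) (apR L w)
  | [], v, w => by simp [apR]
  | r :: L, v, w => by
    have hd : Nat.xor v w / 2 = Nat.xor (v / 2) (w / 2) := Nat.xor_div_two ..
    have hm : Nat.beq (Nat.xor v w % 2) 1 = xor (Nat.beq (v % 2) 1) (Nat.beq (w % 2) 1) := bit_xor v w 0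
    simp only [apR, hd, apR_xor L, hm]
    cases Nat.beq (v % 2) 1 <;> cases Nat.beq (w % 2) 1 <;>
      refine xor_four _ _ _ _ _ ?_ <;> simp

theorem apR_pow : ∀ (L : List ℕ) (i : ℕ), apR L (2 ^ i) = L.getD i 0
  | [], _ => rfl
  | r :: L, 0 => by
    show Nat.xor (bif Nat.beq (2 ^ 0 % 2) 1 then r else 0) (apR L (2 ^ 0 / 2)) = r
    rw [pow_zero, show (1 : ℕ) / 2 = 0 from rfl, apR_zero]
    exact Nat.xor_zero r
  | r :: L, i + 1 => by
    show Nat.xor (bif Nat.beq (2 ^ (i + 1) % 2) 1 then r else 0) (apR L (2 ^ (i + 1) / 2)) = L.getD i 0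
    rw [pow_succ, Nat.mul_mod_left, Nat.mul_div_cancel _ (by norm_num), apR_pow L i]
    exact Nat.zero_xor _

theorem apR_lt : ∀ (L : List ℕ) (n v : ℕ), (∀ r ∈ L, r < 2 ^ n) → apR L v < 2 ^ n
  | [], n, _, _ => Nat.two_pow_pos n
  | r :: L, n, v, h => by
    refine xor_lt ?_ (apR_lt L n _ fun s hs => h s (List.mem_cons_of_mem _ hs))
    cases Nat.beq (v % 2) 1
    exacts [Nat.two_pow_pos n, h r (by simp)]

theorem apR_trunc : ∀ (L : List ℕ) (v : ℕ), apR L v = apR L (v % 2 ^ L.length)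
  | [], _ => rfl
  | r :: L, v => by
    have e1 : v % 2 ^ (L.length + 1) % 2 = v % 2 :=
      Nat.mod_mod_of_dvd v (dvd_pow_self 2 (Nat.succ_ne_zero _))
    have e2 : v % 2 ^ (L.length + 1) / 2 = v / 2 % 2 ^ L.length := by
      rw [pow_succ', Nat.mod_mul_right_div_self]
    show _ = Nat.xor _ (apR L (v % 2 ^ (L.length + 1) / 2))
    rw [List.length_cons, e1, e2, ← apR_trunc L (v / 2)]
    rfl

theorem apR_mod (L : List ℕ) (r v : ℕ) (hL : L.length = 9) (hr : r % 512 = 0) :
    apR (L ++ [r]) v % 512 = apR (L.map (· % 512)) (v % 512) % 512 := by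
  have hx : ∀ x y : ℕ, Nat.xor x y % 512 = Nat.xor (x % 512) (y % 512) := fun x y => by
    apply Nat.eq_of_testBit_eq
    intro i
    show ((x ^^^ y) % 2 ^ 9).testBit i = ((x % 2 ^ 9) ^^^ (y % 2 ^ 9)).testBit i
    simp only [Nat.testBit_mod_two_pow, Nat.testBit_xor]
    cases decide (i < 9) <;> simp
  have key : ∀ v, apR (L ++ [r]) v % 512 = apR (L ++ [r]) (v % 1024) % 512 := fun v => by
    have h := apR_trunc (L ++ [r]) v
    rw [List.length_append, hL] at h
    exact congrArg (· % 512) h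
  have h512 : apR (L ++ [r]) 512 % 512 = 0 := by
    rw [show (512 : ℕ) = 2 ^ 9 from rfl, apR_pow, List.getD_eq_getElem _ _ (by simp [hL]),
      List.getElem_append_right (by simp [hL])]
    simpa [hL] using hr
  rw [key]
  have := lin_ext Nat.xor (fun v => apR (L ++ [r]) v % 512) (fun v => apR (L.map (· % 512)) (v % 512) % 512)
    (fun x y => by show apR _ _ % 512 = _; rw [apR_xor, hx])
    (fun x y => by show apR _ _ % 512 = _; rw [hx, apR_xor, hx])
    (by simp [apR_zero]) 10 (fun i hi => ?_) (v % 1024) (Nat.mod_lt _ (by norm_num))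
  · rw [this, Nat.mod_mod_of_dvd v (by norm_num)]
  rcases Nat.lt_or_eq_of_le (Nat.le_of_lt_succ hi) with h | rfl
  · show apR (L ++ [r]) (2 ^ i) % 512 = apR (L.map (· % 512)) (2 ^ i % 512) % 512
    rw [Nat.mod_eq_of_lt (show 2 ^ i < 512 by
      calc 2 ^ i < 2 ^ 9 := Nat.pow_lt_pow_right (by norm_num) h
        _ = 512 := rfl), apR_pow, apR_pow, List.getD_eq_getElem _ _ (by simp [hL]; omega),
      List.getD_eq_getElem _ _ (by simp [hL]; omega), List.getElem_map, List.getElem_append_left (by omega),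
      Nat.mod_mod]
  · show apR (L ++ [r]) 512 % 512 = apR (L.map (· % 512)) (512 % 512) % 512
    rw [h512, Nat.mod_self, apR_zero, Nat.zero_mod]

end CfsgLib.CosetEnum.U62Thompson
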