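/-
The checks on the elementary abelian subgroup.
-/
import Cfsg.Agent.Lib.CosetEnum.U62Thompson.Defs

set_option autoImplicit false
set_option maxRecDepth 1000000

namespace CfsgLib.CosetEnum.U62Thompson

theorem basic_ok : fBasic = true := by decide +kernel

theorem inj_ok : fInj = true := by decide +kernel

theorem row_ok : (List.range 9).all fRow = true := by decide +kernel

theorem seq_ok : fSeq = true := by decide +kernel

theorem closed_ok : (List.range 4).all fClosed = true := by decide +kernel

theorem distinct_ok : fDistinct = true := by decide +kernel

theorem split_ok : fSplit = true := by decide +kernel

theorem elem_ok : fElem = true := by decide +kernel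

theorem invol_ok : (List.range 27).all fInvol = true := by decide +kernel

theorem invs_len : Nat.beq invs.length 27 = true := by decide +kernel

end CfsgLib.CosetEnum.U62Thompson
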