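/-
The checks on the orbits in the three double covers.
-/
import Cfsg.Agent.Lib.CosetEnum.U62Thompson.Defs

set_option autoImplicit false
set_option maxRecDepth 1000000

namespace CfsgLib.CosetEnum.U62Thompson

theorem orbit_a : fOrbit true false = true := by decide +kernel

theorem lam_a : fLam true false = true := by decide +kernel

theorem fixed_a : fFixed true false = true := by decide +kernel

theorem mid_a : oMask true false 1 = 2 ^ 512 := by decide +kernel

theorem orbit_b : fOrbit false true = true := by decide +kernel

theorem lam_b : fLam false true = true := by decide +kernel

theorem fixed_b : fFixed false true = true := by decide +kernel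

theorem mid_b : oMask false true 1 = 2 ^ 512 := by decide +kernel

theorem orbit_c : fOrbit true true = true := by decide +kernel

theorem lam_c : fLam true true = true := by decide +kernel

theorem fixed_c : fFixed true true = true := by decide +kernel

theorem mid_c : oMask true true 1 = 2 ^ 512 := by decide +kernel

end CfsgLib.CosetEnum.U62Thompson
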