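/-
Words in the twelvefold cover of U6(2), up to elements of order three.
-/
import Cfsg.Agent.Lib.CosetEnum.U62Thompson.ChecksA
import Cfsg.Agent.Lib.CosetEnum.U62Mult.Main

set_option autoImplicit false
set_option maxRecDepth 1000000

namespace CfsgLib.CosetEnum.U62Thompson

open Cfsg U62Mult Fi22Mult
open Fi22Pair (pr ltW eqW)

attribute [local irreducible] Fi22Mult.gU Fi22Mult.dCoord

theorem st_lt {w : List ℕ} (h : okSt w = true) : ltW w = true := (Bool.and_eq_true_iff.mp h).1

theorem st_mem {w : List ℕ} (h : okSt w = true) : pr w ∈ stabH := by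
  rw [mem_stabH, ← Fi22Pair.pr_one, ← Fi22Pair.pr_append, ← Fi22Pair.pr_append]
  exact Fi22Pair.sound (Fi22Pair.ltW_append (st_lt h) Fi22Pair.lt0) (Fi22Pair.ltW_append Fi22Pair.lt0 (st_lt h))
    (Bool.and_eq_true_iff.mp h).2

open Classical in
/-- The element of the preimage given by a word. -/
noncomputable def cw (w : List ℕ) : ↥preU :=
  if h : okSt w = true then ⟨(w.map cGen).prod, by show πc _ ∈ stabH; rw [πc_word (st_lt h)]; exact st_mem h⟩ else 1

theorem cw_val {w : List ℕ} (h : okSt w = true) : ((cw w : ↥preU) : cover) = (w.map cGen).prod := by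
  rw [cw, dif_pos h]

theorem toH_cw {w : List ℕ} (h : okSt w = true) : (toH (cw w) : presFi22.Grp) = pr w := by
  rw [toH_val, cw_val h, πc_word (st_lt h)]

theorem eqW_pr {u v : List ℕ} (hu : ltW u = true) (hv : ltW v = true) (h : pr u = pr v) : eqW u v = true := by
  cases e : eqW u v
  · exact absurd h (Fi22Pair.ne_of hu hv e)
  · rfl

theorem st_append {u v : List ℕ} (hu : okSt u = true) (hv : okSt v = true) : okSt (u ++ v) = true := by
  have h1 := st_mem hu
  have h2 := st_mem hv
  have h := mem_stabH.mp (mul_mem h1 h2)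
  have hl := Fi22Pair.ltW_append (st_lt hu) (st_lt hv)
  refine Bool.and_eq_true_iff.mpr ⟨hl, ?_⟩
  refine eqW_pr (Fi22Pair.ltW_append hl Fi22Pair.lt0) (Fi22Pair.ltW_append Fi22Pair.lt0 hl) ?_
  simpa only [Fi22Pair.pr_append, Fi22Pair.pr_one] using h

theorem st_rev {u : List ℕ} (hu : okSt u = true) : okSt u.reverse = true := by
  have h := mem_stabH.mp (inv_mem (st_mem hu))
  have hl := Fi22Pair.ltW_rev (st_lt hu)
  refine Bool.and_eq_true_iff.mpr ⟨hl, ?_⟩
  refine eqW_pr (Fi22Pair.ltW_append hl Fi22Pair.lt0) (Fi22Pair.ltW_append Fi22Pair.lt0 hl) ?_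
  simpa only [Fi22Pair.pr_append, Fi22Pair.pr_one, Fi22Pair.pr_rev] using h

theorem st_nil : okSt [] = true := by decide +kernel

theorem st_zero : okSt [0] = true := by decide +kernel

theorem st_flat {L : List (List ℕ)} (h : ∀ w ∈ L, okSt w = true) : okSt L.flatten = true := by
  induction L with
  | nil => exact st_nil
  | cons w L ih =>
    rw [List.flatten_cons]
    exact st_append (h w (by simp)) (ih fun v hv => h v (by simp [hv]))

theorem cw_append {u v : List ℕ} (hu : okSt u = true) (hv : okSt v = true) : cw (u ++ v) = cw u * cw v := by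
  refine Subtype.ext ?_
  rw [Subgroup.coe_mul, cw_val (st_append hu hv), cw_val hu, cw_val hv, List.map_append, List.prod_append]

theorem cw_nil : cw [] = 1 := by
  refine Subtype.ext ?_
  rw [cw_val st_nil]; rfl

theorem cw_rev {u : List ℕ} (hu : okSt u = true) : cw u.reverse = (cw u)⁻¹ := by
  refine Subtype.ext ?_
  rw [Subgroup.coe_inv, cw_val (st_rev hu), cw_val hu, prod_reverse_inv cGen cGen_sq]

theorem cw_zero : cw [0] = gT := by
  refine Subtype.ext ?_
  rw [cw_val st_zero, List.map_singleton, List.prod_singleton]; rfl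

theorem q_lt : 1 < Fi31671.cert.T.n := show 1 < Fi31671.table.n by decide

/-- The permutation of a word in the second coordinate. -/
noncomputable def dPerm (w : List ℕ) : Fin Fi31671.cert.T.n :=
  Fi31671.cert.hom Fi31671.hlt (w.map dCoord).prod ⟨1, q_lt⟩

theorem tp_pow (n : ℕ) : Fi23Class.tp ^ n = Fi23Class.tp ^ (n % 2) :=
  pow_eq_pow_mod n (by rw [pow_two]; exact tp_sq)

theorem fixq_iff {w : List ℕ} (hw : ∀ x ∈ w, x < 9) : fixq w = true ↔ (dPerm w : ℕ) = 1 := by
  have hlt : ∀ x ∈ tw w, x < 10 := by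
    intro x hx
    simp only [tw, List.mem_append, List.mem_map] at hx
    rcases hx with ⟨y, hy, rfl⟩ | hx
    · exact (show ∀ y < 9, Fi23Class.emb y < 10 by decide) y (hw y hy)
    · cases hb : Nat.beq (w.length % 2) 1 <;> rw [hb] at hx
      · simp at hx
      · exact (show ∀ y ∈ Fi23Class.zw, y < 10 by decide) x hx
  have hp : ((tw w).map presFi23.σ).prod = (w.map dCoord).prod := by
    rw [(dCoord_word w hw).1, tp_pow, tw, List.map_append, List.prod_append]
    congr 1
    rcases Nat.mod_two_eq_zero_or_one w.length with e | e <;> rw [e]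
    · rw [pow_zero]; rfl
    · rw [pow_one]; rfl
  have h := Fi31671.cert.hom_word_run' Fi31671.hlt Fi23Class.hid (tw w) hlt ⟨1, q_lt⟩
  rw [hp] at h
  show Nat.beq (runT Fi31671.table 10 (tw w).reverse 1) 1 = true ↔ _
  rw [show (dPerm w : ℕ) = runT Fi31671.table 10 (tw w).reverse 1 from h]
  exact ⟨Nat.eq_of_beq_eq_true, fun e => by rw [e]; rfl⟩

theorem tp_moves : (Fi31671.cert.hom Fi31671.hlt Fi23Class.tp ⟨1, q_lt⟩ : ℕ) ≠ 1 := by
  have hw : ∀ x ∈ spiderW ++ armW, x < 9 := fun x hx => by
    rcases List.mem_append.mp hx with h | h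
    exacts [word_lt.1 x h, word_lt.2.1 x h]
  have e : ((spiderW ++ armW).map dCoord).prod = Fi23Class.tp := by
    have h2 : ∀ w : List ℕ, (w.map gCov).prod.2.1 = (w.map dCoord).prod := fun w => by
      show (w.map fun x => ((presFi22.σ x, dCoord x, gU x) : Amb)).prod.2.1 = _
      rw [prod_triple]
    rw [List.map_append, List.prod_append, ← h2, ← h2, gCov_spider, gCov_arm, one_mul]
  intro h
  have := (fixq_iff hw).mpr (by rw [dPerm, e]; exact h)
  have hb := basic_ok
  simp only [fBasic, Bool.and_eq_true, Bool.not_eq_true'] at hb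
  rw [hb.2] at this
  exact Bool.false_ne_true this

/-- Two checked words agree up to the recorded power of the central element and its square. -/
theorem cw_eq {u v : List ℕ} {b : Bool} (hu : okSt u = true) (hv : okSt v = true) (h : okE u v b = true) :
    ∃ n : ℕ, cw u = zU ^ n * cw v ∧ n % 2 = (bif b then 1 else 0) := by
  rw [okE, Bool.and_eq_true] at h
  have hw := st_append hu (st_rev hv)
  obtain ⟨n, hn⟩ := toH_ker (e := cw (u ++ v.reverse)) (Subtype.ext (by
    rw [toH_cw hw, Fi22Pair.pr_append, Fi22Pair.pr_rev, Fi22Pair.sound (st_lt hu) (st_lt hv) h.1, mul_inv_cancel]; rfl))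
  refine ⟨n, by rw [← hn, cw_append hu (st_rev hv), cw_rev hv, inv_mul_cancel_right], ?_⟩
  have hd : ((u ++ v.reverse).map dCoord).prod = Fi23Class.tp ^ (n % 2) := by
    have e := congrArg (fun x : ↥preU => ((x : cover) : Amb).2.1) hn
    simp only [zU_val, cw_val hw, word_val (st_lt hw)] at e
    rw [e, tp_pow]
  have hf := fixq_iff (Fi22Pair.lt_of (st_lt hw))
  rw [dPerm, hd] at hf
  have h2 := h.2
  rcases Nat.mod_two_eq_zero_or_one n with e | e <;> rw [e] at hf ⊢
  · rw [pow_zero, map_one] at hf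
    rw [hf.mpr rfl] at h2
    cases b <;> simp_all
  · rw [pow_one] at hf
    cases hfb : fixq (u ++ v.reverse)
    · rw [hfb] at h2; cases b <;> simp_all
    · exact absurd (hf.mp hfb) tp_moves

end CfsgLib.CosetEnum.U62Thompson
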