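/-
Images of the words in a double cover of U6(2).
-/
import Cfsg.Agent.Lib.CosetEnum.U62Thompson.Words
import Cfsg.Agent.Lib.CosetEnum.U62Thompson.Bits

set_option autoImplicit false
set_option maxRecDepth 1000000

universe u

namespace CfsgLib.CosetEnum.U62Thompson

open Cfsg U62Mult Fi22Mult
open Fi22Pair (pr ltW eqW)

attribute [local irreducible] Fi22Mult.gU Fi22Mult.dCoord

variable {U : Type u} [Group U] {C : Type u} [Group C]

/-- A double cover as a quotient of the twelvefold cover. -/
structure Ctx (π : C →* U) (d : C) where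
  /-- The map of the point stabiliser. -/
  p : ↥stabH →* U
  psurj : Function.Surjective p
  pker : ∀ h, p h = 1 ↔ h = 1 ∨ h = aT
  /-- The map of the twelvefold cover. -/
  g : ↥preU →* C
  gsurj : Function.Surjective g
  comm : ∀ e, π (g e) = p (toH e)
  ker : ∀ c, π c = 1 ↔ c = 1 ∨ c = d
  dne : d ≠ 1
  dsq : d * d = 1
  dcent : ∀ c : C, Commute d c

variable {π : C →* U} {d : C} (X : Ctx π d)

namespace Ctx

include X

open Classical in
/-- Whether the first transposition maps to the central involution. -/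
noncomputable def ka : Bool := decide (X.g gT = d)

open Classical in
/-- Whether the central element of the sixfold cover maps to the central involution. -/
noncomputable def kb : Bool := decide (X.g zU = d)

theorem d_pi : π d = 1 := (X.ker d).mpr (Or.inr rfl)

theorem d_pow (n : ℕ) : d ^ n = d ^ (n % 2) := pow_eq_pow_mod n (by rw [pow_two]; exact X.dsq)

theorem g_gT : X.g gT = if X.ka then d else 1 := by
  classical
  have h : π (X.g gT) = 1 := by rw [X.comm, toH_gT, (X.pker aT).mpr (Or.inr rfl)]
  rcases (X.ker _).mp h with e | e <;> simp [ka, e, Ne.symm X.dne]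

theorem g_zU : X.g zU = if X.kb then d else 1 := by
  classical
  have h : π (X.g zU) = 1 := by rw [X.comm, toH_zU, map_one]
  rcases (X.ker _).mp h with e | e <;> simp [kb, e, Ne.symm X.dne]

theorem g_zU_pow (n : ℕ) : X.g (zU ^ n) = if (X.kb && decide (n % 2 = 1)) then d else 1 := by
  rw [map_pow, g_zU]
  cases X.kb <;> simp only [Bool.false_and, Bool.true_and, Bool.false_eq_true, if_false, if_true, one_pow]
  rw [X.d_pow]
  rcases Nat.mod_two_eq_zero_or_one n with e | e <;> rw [e] <;> simp

theorem kab : X.ka = true ∨ X.kb = true := by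
  by_contra h
  simp only [not_or, Bool.not_eq_true] at h
  obtain ⟨e, he⟩ := X.gsurj d
  have hp : X.p (toH e) = 1 := by rw [← X.comm, he, X.d_pi]
  have g1 := X.g_gT
  have g2 := X.g_zU
  simp only [h.1, h.2, Bool.false_eq_true, if_false] at g1 g2
  apply X.dne
  rw [← he]
  rcases (X.pker _).mp hp with t | t
  · obtain ⟨n, rfl⟩ := toH_ker t
    rw [map_pow, g2, one_pow]
  · obtain ⟨n, hn⟩ := toH_ker (e := e * gT) (by rw [map_mul, t, toH_gT, aT_sq])
    rw [show e = zU ^ n * gT by rw [← hn, mul_assoc, U62Mult.gT_sq, mul_one], map_mul, map_pow, g1, g2, one_pow,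
      one_mul]

/-- The image of a word. -/
noncomputable def el (w : List ℕ) : C := X.g (cw w)

theorem el_append {u v : List ℕ} (hu : okSt u = true) (hv : okSt v = true) : X.el (u ++ v) = X.el u * X.el v := by
  rw [el, cw_append hu hv, map_mul]; rfl

theorem el_nil : X.el [] = 1 := by rw [el, cw_nil, map_one]

theorem el_rev {u : List ℕ} (hu : okSt u = true) : X.el u.reverse = (X.el u)⁻¹ := by
  rw [el, cw_rev hu, map_inv]; rfl

theorem el_conj {u v : List ℕ} (hu : okSt u = true) (hv : okSt v = true) :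
    X.el (u ++ v ++ u.reverse) = X.el u * X.el v * (X.el u)⁻¹ := by
  rw [X.el_append (st_append hu hv) (st_rev hu), X.el_append hu hv, X.el_rev hu]

theorem el_zero : X.el [0] = if X.ka then d else 1 := by rw [el, cw_zero, g_gT]

theorem el_eq {u v : List ℕ} {b : Bool} (hu : okSt u = true) (hv : okSt v = true) (h : okE u v b = true) :
    X.el u = X.el v * if (X.kb && b) then d else 1 := by
  obtain ⟨n, hn, hb⟩ := cw_eq hu hv h
  rw [el, hn, map_mul, X.g_zU_pow]
  have e : decide (n % 2 = 1) = b := by cases b <;> simp_all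
  rw [e]
  split_ifs
  · exact (X.dcent _).eq
  · rw [one_mul, mul_one]; rfl

theorem el_pi {u v : List ℕ} (hu : okSt u = true) (hv : okSt v = true) (h : eqW u v = true) :
    π (X.el u) = π (X.el v) := by
  rw [el, el, X.comm, X.comm]
  exact congrArg X.p (Subtype.ext (by rw [toH_cw hu, toH_cw hv]; exact Fi22Pair.sound (st_lt hu) (st_lt hv) h))

/-- One of the ten basic involutions. -/
noncomputable def y (i : ℕ) : C := if i < 9 then X.el (bW i) else d

/-- A product of basic involutions. -/
noncomputable def vN : ℕ → ℕ → C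
  | 0, _ => 1
  | n + 1, m => vN n m * if bit m n then X.y n else 1

/-- The element of the elementary abelian subgroup with the given coordinates. -/
noncomputable def vC (m : ℕ) : C := X.vN 10 m

end Ctx

theorem st_bW {i : ℕ} (hi : i < 10) : okSt (bW i) = true := by
  have h := basic_ok
  simp only [fBasic, Bool.and_eq_true, List.all_eq_true, List.mem_range] at h
  exact (h.1.1.1 i hi).1

theorem st_gW {k : ℕ} (hk : k < 9) : okSt (gW k) = true := by
  have h := basic_ok
  simp only [fBasic, Bool.and_eq_true, List.all_eq_true, List.mem_range] at h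
  exact h.1.2 k hk

theorem bW_nine : bW 9 = [0] := by decide +kernel

theorem seqs_lt {i : ℕ} (k : ℕ) (hk : k ∈ seqs.getD i []) : k < 4 := by
  have h := seq_ok
  simp only [fSeq, Bool.and_eq_true, List.all_eq_true, List.mem_range] at h
  by_cases hi : i < seqs.length
  · rw [List.getD_eq_getElem _ _ hi] at hk
    exact blt_iff.mp (h.1.1.2.2 _ (List.getElem_mem hi) k hk)
  · rw [List.getD_eq_default _ _ (by omega)] at hk; simp at hk

theorem st_sW (i : ℕ) : okSt (sW i) = true := by
  rw [sW, List.flatMap_def]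
  refine st_flat fun w hw => ?_
  obtain ⟨k, hk, rfl⟩ := List.mem_map.mp hw
  exact st_gW (by have := seqs_lt k hk; omega)

theorem st_owN : ∀ (n m : ℕ), n ≤ 10 → okSt (owN n m) = true
  | 0, _, _ => st_nil
  | n + 1, m, h => by
    rw [owN]
    refine st_append (st_owN n m (by omega)) ?_
    cases bit m n
    exacts [st_nil, st_bW (by omega)]

theorem st_ow (m : ℕ) : okSt (ow m) = true := st_owN 10 m le_rfl

namespace Ctx

theorem y_sq {i : ℕ} (hi : i < 10) : X.y i * X.y i = 1 := by
  unfold y
  split_ifs with h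
  · have hb := basic_ok
    simp only [fBasic, Bool.and_eq_true, List.all_eq_true, List.mem_range] at hb
    have e := X.el_eq (st_append (st_bW hi) (st_bW hi)) st_nil (hb.1.1.1 i hi).2
    rw [X.el_append (st_bW hi) (st_bW hi), X.el_nil, Bool.and_false, if_neg Bool.false_ne_true, mul_one] at e
    exact e
  · exact X.dsq

theorem y_comm {i j : ℕ} (hi : i < 10) (hj : j < 10) : Commute (X.y i) (X.y j) := by
  unfold y
  split_ifs with h h'
  · wlog hji : j ≤ i generalizing i j
    · exact (this hj hi h' h (by omega)).symm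
    rcases Nat.lt_or_eq_of_le hji with hlt | rfl
    · have hb := basic_ok
      simp only [fBasic, Bool.and_eq_true, List.all_eq_true, List.mem_range] at hb
      have e := X.el_eq (st_append (st_bW hi) (st_bW hj)) (st_append (st_bW hj) (st_bW hi)) (hb.1.1.2 i hi j hlt)
      rw [X.el_append (st_bW hi) (st_bW hj), X.el_append (st_bW hj) (st_bW hi), Bool.and_false,
        if_neg Bool.false_ne_true, mul_one] at e
      exact e
    · exact Commute.refl _
  exacts [(X.dcent _).symm, X.dcent _, Commute.refl _]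

theorem vN_comm : ∀ (n m i : ℕ), n ≤ 10 → i < 10 → Commute (X.y i) (X.vN n m)
  | 0, _, _, _, _ => Commute.one_right _
  | n + 1, m, i, hn, hi => by
    rw [vN]
    refine (vN_comm n m i (by omega) hi).mul_right ?_
    split_ifs
    exacts [X.y_comm hi (by omega), Commute.one_right _]

theorem vN_xor : ∀ (n m k : ℕ), n ≤ 10 → X.vN n (Nat.xor m k) = X.vN n m * X.vN n k
  | 0, _, _, _ => (one_mul 1).symm
  | n + 1, m, k, h => by
    simp only [vN, bit_xor, vN_xor n m k (by omega)]
    have hc := X.vN_comm n k n (by omega) (by omega)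
    have hsq := X.y_sq (i := n) (by omega)
    cases bit m n <;> cases bit k n <;>
      simp only [Bool.false_eq_true, if_false, if_true, Bool.xor_false, Bool.xor_true, Bool.not_false, Bool.not_true,
        mul_one, mul_assoc]
    · rw [hc.eq]
    · rw [← mul_assoc (X.y n), hc.eq, mul_assoc, hsq, mul_one]

theorem vC_xor (m k : ℕ) : X.vC (Nat.xor m k) = X.vC m * X.vC k := X.vN_xor 10 m k le_rfl

theorem vN_zero : ∀ n, X.vN n 0 = 1
  | 0 => rfl
  | n + 1 => by rw [vN, vN_zero n, bit_zero, if_neg Bool.false_ne_true, mul_one]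

theorem vC_zero : X.vC 0 = 1 := X.vN_zero 10

theorem vN_pow : ∀ n i, X.vN n (2 ^ i) = if i < n then X.y i else 1
  | 0, _ => rfl
  | n + 1, i => by
    rw [vN, vN_pow n i, bit_pow]
    rcases lt_trichotomy i n with h | h | h
    · simp [h, h.ne, Nat.lt_succ_of_lt h]
    · simp [h]
    · simp [Nat.lt_asymm h, h.ne', show ¬ i < n + 1 by omega]

theorem vC_pow (i : ℕ) (hi : i < 10) : X.vC (2 ^ i) = X.y i := by rw [vC, X.vN_pow, if_pos hi]

theorem vC_d : X.vC 512 = d := by
  rw [show (512 : ℕ) = 2 ^ 9 from rfl, X.vC_pow 9 (by norm_num), y, if_neg (by norm_num)]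

theorem vN_el : ∀ n m, n ≤ 9 → X.el (owN n m) = X.vN n m
  | 0, _, _ => X.el_nil
  | n + 1, m, h => by
    rw [owN, vN, X.el_append (st_owN n m (by omega)) (by cases bit m n; exacts [st_nil, st_bW (by omega)]),
      vN_el n m (by omega)]
    cases bit m n
    · simp [el_nil]
    · simp [y, show n < 9 by omega]

theorem el_ow (m : ℕ) : X.el (ow m) = X.vN 9 m * if (X.ka && bit m 9) then d else 1 := by
  show X.el (owN 9 m ++ bif bit m 9 then bW 9 else []) = _
  rw [X.el_append (st_owN 9 m (by norm_num)) (by cases bit m 9; exacts [st_nil, st_bW (by norm_num)]),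
    X.vN_el 9 m le_rfl]
  cases bit m 9
  · simp [el_nil]
  · simp only [Bool.cond_true, bW_nine, X.el_zero, Bool.and_true]

theorem vN_mod : ∀ n m, n ≤ 9 → X.vN n (m % 512) = X.vN n m
  | 0, _, _ => rfl
  | n + 1, m, h => by
    rw [vN, vN, vN_mod n m (by omega), show (512 : ℕ) = 2 ^ 9 from rfl, bit_mod]
    simp [show n < 9 by omega]

theorem vC_low (m : ℕ) (b : Bool) : X.vC (m % 512 + bif b then 512 else 0) = X.vN 9 m * if b then d else 1 := by
  have e : m % 512 + (bif b then 512 else 0) = Nat.xor (m % 512) (bif b then 512 else 0) := by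
    cases b
    · exact (Nat.xor_zero _).symm
    · show m % 512 + 512 = m % 512 ^^^ 512
      apply Nat.eq_of_testBit_eq
      intro i
      have hlt : m % 2 ^ 9 < 2 ^ 9 := Nat.mod_lt _ (by norm_num)
      rw [Nat.testBit_xor, show (512 : ℕ) = 2 ^ 9 from rfl, add_comm]
      rcases lt_trichotomy i 9 with hi | rfl | hi
      · rw [Nat.testBit_two_pow_add_gt hi, Nat.testBit_two_pow]; simp [Nat.ne_of_gt hi]
      · rw [Nat.testBit_two_pow_add_eq, Nat.testBit_two_pow, Nat.testBit_lt_two_pow hlt]; simp
      · have hle : 2 ^ 10 ≤ 2 ^ i := Nat.pow_le_pow_right (by norm_num) hi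
        rw [Nat.testBit_lt_two_pow (by omega), Nat.testBit_two_pow, Nat.testBit_lt_two_pow (by omega)]
        simp [Nat.ne_of_lt hi]
  rw [e, X.vC_xor]
  have hm : X.vC (m % 512) = X.vN 9 m := by
    show X.vN 9 (m % 512) * _ = _
    rw [X.vN_mod 9 m le_rfl, show (512 : ℕ) = 2 ^ 9 from rfl, bit_mod]
    simp
  rw [hm]
  cases b
  · simp [X.vC_zero]
  · simp [X.vC_d]

theorem gR_len {k : ℕ} (hk : k < 9) : (gR k).length = 9 := by
  have h := List.all_eq_true.mp row_ok k (List.mem_range.mpr hk)
  simp only [fRow, Bool.and_eq_true] at h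
  exact Nat.eq_of_beq_eq_true h.1

theorem conj_y {k i : ℕ} (hk : k < 9) (hi : i < 10) :
    X.el (gW k) * X.y i * (X.el (gW k))⁻¹ = X.vC (apR (kR X.ka X.kb k) (2 ^ i)) := by
  have hl := gR_len hk
  rw [apR_pow]
  rcases Nat.lt_or_eq_of_le (Nat.le_of_lt_succ hi) with h9 | rfl
  · have h := List.all_eq_true.mp row_ok k (List.mem_range.mpr hk)
    simp only [fRow, Bool.and_eq_true, List.all_eq_true, List.mem_range] at h
    obtain ⟨hr, hE⟩ := h.2 i h9
    set r := (gR k).getD i 0 with hrd
    have e := X.el_eq (st_append (st_append (st_gW hk) (st_bW hi)) (st_rev (st_gW hk))) (st_ow _) hE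
    rw [X.el_conj (st_gW hk) (st_bW hi), X.el_ow] at e
    have hrow : (kR X.ka X.kb k).getD i 0 = red X.ka X.kb r := by
      rw [hrd, kR, List.getD_eq_getElem _ _ (by simp [hl]; omega), List.getElem_append_left (by simp [hl]; omega),
        List.getElem_map, List.getD_eq_getElem _ _ (by omega)]
    rw [hrow, y, if_pos h9, e, red, X.vC_low]
    have b9 : bit (r % 1024) 9 = bit r 9 := by rw [show (1024 : ℕ) = 2 ^ 10 from rfl, bit_mod]; simp
    have v9 : X.vN 9 (r % 1024) = X.vN 9 r := by
      rw [← X.vN_mod 9 (r % 1024) le_rfl, Nat.mod_mod_of_dvd r (by norm_num), X.vN_mod 9 r le_rfl]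
    rw [b9, v9]
    cases X.ka <;> cases X.kb <;> cases bit r 9 <;> cases bit r 10 <;> simp [X.dsq, mul_assoc]
  · have hrow : (kR X.ka X.kb k).getD 9 0 = 512 := by
      rw [kR, List.getD_eq_getElem _ _ (by simp [hl]), List.getElem_append_right (by simp [hl])]
      simp [hl]
    rw [hrow, y, if_neg (by norm_num), ← (X.dcent _).eq, mul_inv_cancel_right, X.vC_d]

theorem conj_vC {k : ℕ} (hk : k < 9) (v : ℕ) (hv : v < 1024) :
    X.el (gW k) * X.vC v * (X.el (gW k))⁻¹ = X.vC (apR (kR X.ka X.kb k) v) := by
  refine lin_ext (· * ·) (fun v => X.el (gW k) * X.vC v * (X.el (gW k))⁻¹) (fun v => X.vC (apR (kR X.ka X.kb k) v))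
    (fun x z => by simp only [X.vC_xor]; group) (fun x z => by simp only [apR_xor, X.vC_xor])
    (by simp [X.vC_zero, apR_zero]) 10 (fun i hi => ?_) v hv
  simp only [X.vC_pow i hi]
  exact X.conj_y hk hi

theorem kR_lt {k : ℕ} (hk : k < 9) (v : ℕ) : apR (kR X.ka X.kb k) v < 1024 := by
  refine apR_lt _ 10 v fun r hr => ?_
  simp only [kR, List.mem_append, List.mem_map, List.mem_singleton] at hr
  rcases hr with ⟨t, -, rfl⟩ | rfl
  · unfold red
    have := Nat.mod_lt t (show 512 > 0 by norm_num)
    cases xor (X.ka && bit t 9) (X.kb && bit t 10) <;> simp <;> omega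
  · norm_num

theorem inj_low {m : ℕ} (hm : m < 512) (h : π (X.vC m) = 1) : m = 0 := by
  by_contra h0
  have hv : X.vC m = X.el (owN 9 m) := by
    have h1 := X.vC_low m false
    simp only [Bool.cond_false, Nat.add_zero, Nat.mod_eq_of_lt hm, Bool.false_eq_true, if_false, mul_one] at h1
    rw [h1, X.vN_el 9 m le_rfl]
  rw [hv, el, X.comm] at h
  have hmv : ∀ j, 0 < j → j < 1024 → pr (ow j) ≠ 1 := fun j hj hj2 e => by
    have hi := List.all_eq_true.mp inj_ok (j - 1) (List.mem_range.mpr (by omega))
    rw [show j - 1 + 1 = j by omega] at hi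
    have hh := Fi22Pair.hom_pr (st_lt (st_ow j)) ⟨3507, show 3507 < Fi3510.table.n by decide⟩
    rw [e, map_one, Equiv.Perm.one_apply] at hh
    rw [← hh] at hi
    simp at hi
  have hb9 : bit m 9 = false := by rw [bit_eq]; exact Nat.testBit_lt_two_pow hm
  have hb9' : bit (m + 512) 9 = true := by
    rw [bit_eq, add_comm, show (512 : ℕ) = 2 ^ 9 from rfl, Nat.testBit_two_pow_add_eq, Nat.testBit_lt_two_pow hm]
    rfl
  have how : ow m = owN 9 m := by
    show owN 9 m ++ (bif bit m 9 then bW 9 else []) = _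
    rw [hb9]; simp
  have hlow : ∀ n ≤ 9, owN n (m + 512) = owN n m := fun n => by
    induction n with
    | zero => intro _; rfl
    | succ n ih =>
      intro hn
      rw [owN, owN, ih (by omega), bit_eq, bit_eq, add_comm, show (512 : ℕ) = 2 ^ 9 from rfl,
        Nat.testBit_two_pow_add_gt (by omega)]
  rcases (X.pker _).mp h with e | e
  · have := congrArg Subtype.val e
    rw [toH_cw (st_owN 9 m (by norm_num))] at this
    exact hmv m (by omega) (by omega) (by rw [how]; exact this)
  · have := congrArg Subtype.val e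
    rw [toH_cw (st_owN 9 m (by norm_num))] at this
    apply hmv (m + 512) (by omega) (by omega)
    show pr (owN 9 (m + 512) ++ (bif bit (m + 512) 9 then bW 9 else [])) = 1
    rw [hlow 9 le_rfl, hb9', Bool.cond_true, bW_nine, Fi22Pair.pr_append, Fi22Pair.pr_one, this]
    show presFi22.σ 0 * presFi22.σ 0 = 1
    exact presFi22.σ_sq 0

theorem vC_inj {m k : ℕ} (hm : m < 1024) (hk : k < 1024) (h : X.vC m = X.vC k) : m = k := by
  have key : ∀ j < 1024, X.vC j = 1 → j = 0 := fun j hj e => by
    have hd : j = j % 512 + bif decide (512 ≤ j) then 512 else 0 := by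
      by_cases h5 : 512 ≤ j <;> simp [h5] <;> omega
    have hp : π (X.vC (j % 512)) = 1 := by
      have h1 := X.vC_low j (decide (512 ≤ j))
      rw [← hd, e] at h1
      have h2 := X.vC_low j false
      simp only [Bool.cond_false, Nat.add_zero, Bool.false_eq_true, if_false, mul_one] at h2
      rw [h2]
      have h3 := congrArg π h1
      rw [map_one, map_mul] at h3
      rw [h3]
      split_ifs <;> simp [X.d_pi]
    have h0 := X.inj_low (Nat.mod_lt _ (by norm_num)) hp
    by_cases h5 : 512 ≤ j
    · exfalso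
      rw [show j = 512 by omega, X.vC_d] at e
      exact X.dne e
    · omega
  have hx : X.vC (Nat.xor m k) = 1 := by
    rw [X.vC_xor, h, ← X.vC_xor]
    show X.vC (k ^^^ k) = 1
    rw [Nat.xor_self, X.vC_zero]
  have h0 : m ^^^ k = 0 := key _ (xor_lt (n := 10) hm hk) hx
  exact Nat.xor_eq_zero_iff.mp h0

end Ctx

end CfsgLib.CosetEnum.U62Thompson
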