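/-
Every perfect double cover of PSU(6, 2) is a quotient of the twelvefold cover.
-/
import Cfsg.Agent.Lib.CosetEnum.U62Thompson.Lift

set_option autoImplicit false
set_option maxRecDepth 1000000

universe u

namespace CfsgLib.CosetEnum.U62Thompson

open Cfsg U62Mult

attribute [local irreducible] Fi22Mult.gU Fi22Mult.dCoord

/-- The projection of the point stabiliser, with its order. -/
theorem base_map {F : Type} [Field F] [Fintype F] (hF : Fintype.card F = 4) :
    ∃ p : ↥stabH →* PSU 6 F 2, Function.Surjective p ∧ (∀ h, p h = 1 ↔ h = 1 ∨ h = aT) ∧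
      commutator ↥stabH = ⊤ ∧ commutator (PSU 6 F 2) = ⊤ ∧ Nat.card ↥stabH = 18393661440 := by
  classical
  letI : Fintype (GaloisField 2 2) := Fintype.ofFinite _
  have hK : Fintype.card (GaloisField 2 2) = 2 ^ 2 := by
    rw [← Nat.card_eq_fintype_card]; exact GaloisField.card 2 2 (by norm_num)
  obtain ⟨hc2, ⟨e⟩, hns⟩ := Fi22Class.double_cover_field hK
  obtain ⟨e'⟩ := CfsgLib.SUShort.psu_congr (FiniteField.ringEquivOfCardEq
    (show Fintype.card (GaloisField 2 2) = Fintype.card F by rw [hK, hF]; norm_num)) 6 2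
  haveI : Finite presFi22.Grp := Cfsg.Agent.S1696.upper.1
  set Z := Subgroup.center ↥stabH with hZd
  have haZ : aT ∈ Z := Subgroup.mem_center_iff.mpr fun h => (aT_central h).eq
  have hZ : Z = Subgroup.zpowers aT := by
    refine (Subgroup.eq_of_le_of_card_ge (Subgroup.zpowers_le.mpr haZ) ?_).symm
    rw [Nat.card_zpowers, orderOf_eq_prime (p := 2) (by rw [pow_two]; exact aT_sq) aT_ne]
    exact hc2.le
  let p : ↥stabH →* PSU 6 F 2 := (e.trans e').toMonoidHom.comp (QuotientGroup.mk' Z)
  have hsurj : Function.Surjective p := (e.trans e').surjective.comp (QuotientGroup.mk'_surjective _)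
  have hker : ∀ h, p h = 1 ↔ h = 1 ∨ h = aT := fun h => by
    show (e.trans e') _ = 1 ↔ _
    rw [MulEquiv.map_eq_one_iff, QuotientGroup.mk'_apply, QuotientGroup.eq_one_iff, hZ]
    refine ⟨fun hh => ?_, ?_⟩
    · obtain ⟨k, rfl⟩ := Subgroup.mem_zpowers_iff.mp hh
      rcases Int.even_or_odd k with ⟨m, rfl⟩ | ⟨m, rfl⟩
      · exact Or.inl (by rw [← two_mul, zpow_mul, zpow_two, aT_sq, one_zpow])
      · exact Or.inr (by rw [zpow_add_one, zpow_mul, zpow_two, aT_sq, one_zpow, one_mul])
    · rintro (rfl | rfl)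
      exacts [one_mem _, Subgroup.mem_zpowers _]
  have hF2 : Fintype.card F = 2 ^ 2 := hF.trans (by norm_num)
  have hG : commutator (PSU 6 F 2) = ⊤ := by
    rw [commutator_def, ← Subgroup.map_top_of_surjective (QuotientGroup.mk' (Subgroup.center (SU 6 F 2)))
      (QuotientGroup.mk'_surjective _), ← Subgroup.map_commutator, ← commutator_def,
      CfsgLib.UnitarySimple.perfect hF2 (by norm_num) (by omega)]
  have hH : commutator ↥stabH = ⊤ := by
    set D := commutator ↥stabH
    have hmap : D.map p = ⊤ := by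
      show (commutator ↥stabH).map p = ⊤
      rw [commutator_def, Subgroup.map_commutator, Subgroup.map_top_of_surjective p hsurj, ← commutator_def, hG]
    have hpk : p.ker ≤ D := by
      by_contra hn
      have haD : aT ∉ D := fun h => hn fun x hx => by
        rcases (hker x).mp hx with rfl | rfl
        exacts [one_mem _, h]
      refine hns D (Subgroup.isComplement'_of_disjoint_and_mul_eq_univ ?_ ?_)
      · rw [Subgroup.disjoint_def]
        intro x hx hxD
        rw [hZ] at hx
        have hx' : p x = 1 := by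
          obtain ⟨k, rfl⟩ := Subgroup.mem_zpowers_iff.mp hx
          rw [map_zpow, (hker aT).mpr (Or.inr rfl), one_zpow]
        rcases (hker x).mp hx' with rfl | rfl
        exacts [rfl, absurd hxD haD]
      · refine Set.eq_univ_of_forall fun x => ?_
        obtain ⟨d, hd, hdx⟩ := (hmap.symm ▸ Subgroup.mem_top (p x) : p x ∈ D.map p)
        refine Set.mem_mul.mpr ⟨x * d⁻¹, ?_, d, hd, by rw [inv_mul_cancel_right]⟩
        rcases (hker (x * d⁻¹)).mp (by rw [map_mul, map_inv, hdx, mul_inv_cancel]) with q | q <;> rw [q]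
        exacts [one_mem _, haZ]
    rw [← Subgroup.comap_map_eq_self hpk, hmap, Subgroup.comap_top]
  refine ⟨p, hsurj, hker, hH, hG, ?_⟩
  obtain ⟨ee, -⟩ := Fi3510.cert.exists_equiv Fi3510.hlt Fi22Class.hid Fi3510.hhw
  have h : 3510 * Nat.card ↥stabH = 64561751654400 := by
    rw [← (show Nat.card presFi22.Grp = 64561751654400 from Cfsg.Agent.S1696.result.2),
      ← Subgroup.card_mul_index stabH, index_eq_of_equiv ee, mul_comm]
    rfl
  omega

/-- The projection of a perfect double cover lifts. -/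
theorem exists_ctx {F : Type} [Field F] [Fintype F] (hF : Fintype.card F = 4) {C : Type u} [Group C] [Finite C]
    (q : C →* PSU 6 F 2) (hq : Function.Surjective q) {d : C} (hd : d ≠ 1) (hd2 : d * d = 1)
    (hdc : ∀ c : C, Commute d c) (hker : ∀ c, q c = 1 ↔ c = 1 ∨ c = d) (hC : commutator C = ⊤) :
    ∃ π : C →* ULift.{u} (PSU 6 F 2), Nonempty (Ctx π d) ∧ Nat.card C = 18393661440 := by
  classical
  obtain ⟨p₀, hs₀, hk₀, hH, hG₀, hcard⟩ := base_map hF
  let up : ULift.{u} (PSU 6 F 2) ≃* PSU 6 F 2 := MulEquiv.ulift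
  let p : ↥stabH →* ULift.{u} (PSU 6 F 2) := up.symm.toMonoidHom.comp p₀
  let π : C →* ULift.{u} (PSU 6 F 2) := up.symm.toMonoidHom.comp q
  have hsp : Function.Surjective p := up.symm.surjective.comp hs₀
  have hpk : ∀ h, p h = 1 ↔ h = 1 ∨ h = aT := fun h => by
    show up.symm (p₀ h) = 1 ↔ _
    rw [MulEquiv.map_eq_one_iff, hk₀]
  have hpa : p aT = 1 := (hpk aT).mpr (Or.inr rfl)
  have hG : commutator (ULift.{u} (PSU 6 F 2)) = ⊤ := by
    rw [commutator_def, ← Subgroup.map_top_of_surjective up.symm.toMonoidHom up.symm.surjective,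
      ← Subgroup.map_commutator, ← commutator_def, hG₀]
  have hπs : Function.Surjective π := up.symm.surjective.comp hq
  have hπk : ∀ c, π c = 1 ↔ c = 1 ∨ c = d := fun c => by
    show up.symm (q c) = 1 ↔ _
    rw [MulEquiv.map_eq_one_iff, hker]
  have hπ : IsStemExtension π := by
    refine ⟨hπs, fun c hc => ?_, by rw [hC]; exact le_top⟩
    rcases (hπk c).mp hc with rfl | rfl
    · exact one_mem _
    · exact Subgroup.mem_center_iff.mpr fun e => (hdc e).eq.symm
  let up' : ULift.{u} ↥preU ≃* ↥preU := MulEquiv.ulift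
  haveI : Finite ↥preU := inferInstance
  let σ : ULift.{u} ↥preU →* ULift.{u} (PSU 6 F 2) := (p.comp toH).comp up'.toMonoidHom
  have hperf : commutator (ULift.{u} ↥preU) = ⊤ := by
    rw [commutator_def, ← Subgroup.map_top_of_surjective up'.symm.toMonoidHom up'.symm.surjective,
      ← Subgroup.map_commutator, ← commutator_def, preU_perfect hH]
  have hσ : IsStemExtension σ := by
    refine ⟨(hsp.comp toH_surj).comp up'.surjective, fun e he => ?_, by rw [hperf]; exact le_top⟩
    refine Subgroup.mem_center_iff.mpr fun f => up'.injective ?_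
    rw [map_mul, map_mul]
    have hzg : ∃ n l : ℕ, up' e = zU ^ n * gT ^ l := by
      rcases (hpk _).mp (show p (toH (up' e)) = 1 from he) with h | h
      · obtain ⟨n, hn⟩ := toH_ker h
        exact ⟨n, 0, by rw [hn, pow_zero, mul_one]⟩
      · obtain ⟨n, hn⟩ := toH_ker (e := up' e * gT) (by rw [map_mul, h, toH_gT, aT_sq])
        exact ⟨n, 1, by rw [← hn, pow_one, mul_assoc, U62Mult.gT_sq, mul_one]⟩
    obtain ⟨n, l, hnl⟩ := hzg
    have hz : Commute zU (up' f) := Subtype.ext (zc_comm (up' f).1).eq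
    rw [hnl]
    exact ((hz.pow_left n).mul_left ((gT_central hH (up' f)).symm.pow_left l)).eq.symm
  obtain ⟨φ₀, e₀, m₀⟩ := onto_stem p hsp hpa hG hσ
  obtain ⟨φ, e, m⟩ := onto_stem p hsp hpa hG hπ
  obtain ⟨hfin, hle⟩ := card_derived
  haveI := hfin
  have heq : σ.comp φ₀ = π.comp φ := MonoidHom.eq_of_eqOn_dense presU62.gen_closure (by
    rintro _ ⟨x, hx, rfl⟩
    exact (e₀ x hx).trans (e x hx).symm)
  set D := commutator presU62.Grp
  let ψ₀ : ↥D →* ULift.{u} ↥preU := φ₀.comp D.subtype
  let ψ : ↥D →* C := φ.comp D.subtype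
  have s₀ : Function.Surjective ψ₀ := by
    rw [← MonoidHom.range_eq_top, MonoidHom.range_comp, Subgroup.range_subtype, m₀]
  have s : Function.Surjective ψ := by
    rw [← MonoidHom.range_eq_top, MonoidHom.range_comp, Subgroup.range_subtype, m]
  have hU : Nat.card (ULift.{u} ↥preU) = 110361968640 := by
    rw [Nat.card_congr up'.toEquiv, card_preU, hcard]
  have hb : Function.Bijective ψ₀ := (Nat.bijective_iff_surjective_and_card _).mpr
    ⟨s₀, le_antisymm (by rw [hU]; omega) (Nat.card_le_card_of_surjective _ s₀)⟩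
  let ev : ↥D ≃* ULift.{u} ↥preU := MulEquiv.ofBijective ψ₀ hb
  let g : ↥preU →* C := ψ.comp (ev.symm.toMonoidHom.comp up'.symm.toMonoidHom)
  have hg : ∀ v, π (g v) = p (toH v) := fun v => by
    obtain ⟨x, hx⟩ := ev.surjective (up'.symm v)
    show π (ψ (ev.symm (up'.symm v))) = _
    rw [← hx, MulEquiv.symm_apply_apply]
    refine (DFunLike.congr_fun heq (x : presU62.Grp)).symm.trans ?_
    show σ (ev x) = _
    rw [hx]; rfl
  have gs : Function.Surjective g := s.comp (ev.symm.surjective.comp up'.symm.surjective)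
  refine ⟨π, ⟨{ p := p, psurj := hsp, pker := hpk, g := g, gsurj := gs, comm := hg, ker := hπk, dne := hd,
                dsq := hd2, dcent := hdc }⟩, ?_⟩
  have hk : ∀ {X Y : Type u} [Group X] [Group Y] (f : X →* Y) (a : X), Function.Surjective f →
      (∀ x, f x = 1 ↔ x = 1 ∨ x = a) → a ≠ 1 → Nat.card X = 2 * Nat.card Y := by
    intro X Y _ _ f a hf hfk ha
    have hset : (f.ker : Set X) = {1, a} := Set.ext fun x => by simpa using hfk x
    rw [← f.ker.card_mul_index, Subgroup.index_ker, MonoidHom.range_eq_top.mpr hf, Subgroup.card_top]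
    congr 1
    rw [← SetLike.coe_sort_coe, hset, Nat.card_coe_set_eq, Set.ncard_pair (Ne.symm ha)]
  have h1 : Nat.card C = 2 * Nat.card (ULift.{u} (PSU 6 F 2)) := hk π d hπs hπk hd
  have h2 : Nat.card ↥stabH = 2 * Nat.card (ULift.{u} (PSU 6 F 2)) := by
    have hset : (p.ker : Set ↥stabH) = {1, aT} := Set.ext fun x => by simpa using hpk x
    rw [← p.ker.card_mul_index, Subgroup.index_ker, MonoidHom.range_eq_top.mpr hsp, Subgroup.card_top]
    congr 1
    rw [← SetLike.coe_sort_coe, hset, Nat.card_coe_set_eq, Set.ncard_pair aT_ne.symm]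
  omega

end CfsgLib.CosetEnum.U62Thompson
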