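/-
A Sylow 2-subgroup of the double cover, its largest elementary abelian subgroups, and its involutions.
-/
import Cfsg.Agent.Lib.CosetEnum.U62Thompson.Lift
import Mathlib.GroupTheory.Sylow

set_option autoImplicit false
set_option maxRecDepth 1000000

universe u

namespace CfsgLib.CosetEnum.U62Thompson

open Cfsg U62Mult
open Fi22Pair (pr ltW eqW)

attribute [local irreducible] Fi22Mult.gU Fi22Mult.dCoord

theorem leq_iff : ∀ L M : List ℕ, leq L M = true ↔ L = M
  | [], [] => by simp [leq]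
  | [], _ :: _ => by simp [leq]
  | _ :: _, [] => by simp [leq]
  | a :: L, b :: M => by
    rw [leq, Bool.and_eq_true, leq_iff L M, List.cons.injEq]
    exact ⟨fun h => ⟨Nat.eq_of_beq_eq_true h.1, h.2⟩, fun h => ⟨by rw [h.1]; simp, h.2⟩⟩

variable {U : Type u} [Group U] {C : Type u} [Group C] {π : C →* U} {d : C}

namespace Ctx

variable (X : Ctx π d)
include X

/-- An element of the complement. -/
noncomputable def sC (i : ℕ) : C := X.el (sW i)

/-- Its action on the coordinates. -/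
noncomputable def act (i v : ℕ) : ℕ := kS X.ka X.kb i v

theorem list_conj : ∀ (L : List ℕ), (∀ k ∈ L, k < 4) → ∀ v < 1024,
    L.foldr (fun k y => apR (kR X.ka X.kb (5 + k)) y) v < 1024 ∧
      X.el (L.flatMap fun k => gW (5 + k)) * X.vC v * (X.el (L.flatMap fun k => gW (5 + k)))⁻¹ =
        X.vC (L.foldr (fun k y => apR (kR X.ka X.kb (5 + k)) y) v)
  | [], _, v, hv => ⟨hv, by simp [el_nil]⟩
  | k :: L, h, v, hv => by
    have hk : 5 + k < 9 := by have := h k (by simp); omega
    obtain ⟨h1, h2⟩ := list_conj L (fun j hj => h j (List.mem_cons_of_mem _ hj)) v hv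
    have hst : okSt (L.flatMap fun k => gW (5 + k)) = true := by
      rw [List.flatMap_def]
      refine st_flat fun w hw => ?_
      obtain ⟨j, hj, rfl⟩ := List.mem_map.mp hw
      exact st_gW (by have := h j (List.mem_cons_of_mem _ hj); omega)
    refine ⟨X.kR_lt hk _, ?_⟩
    rw [List.flatMap_cons, X.el_append (st_gW hk) hst, List.foldr_cons, ← X.conj_vC hk _ h1, ← h2]
    group

theorem act_lt (i : ℕ) {v : ℕ} (hv : v < 1024) : X.act i v < 1024 :=
  (X.list_conj _ (fun _ hk => seqs_lt _ hk) v hv).1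

theorem conj_sC (i : ℕ) {v : ℕ} (hv : v < 1024) : X.sC i * X.vC v * (X.sC i)⁻¹ = X.vC (X.act i v) :=
  (X.list_conj _ (fun _ hk => seqs_lt _ hk) v hv).2

theorem act_low : ∀ (i v : ℕ), i < 64 → X.act i v % 512 = apR (sR i) (v % 512) := by
  have hmap : ∀ k, ((gR k).map (red X.ka X.kb)).map (· % 512) = (gR k).map (· % 512) := fun k => by
    rw [List.map_map]
    refine List.map_congr_left fun r _ => ?_
    show red X.ka X.kb r % 512 = r % 512
    unfold red
    cases xor (X.ka && bit r 9) (X.kb && bit r 10) <;> simp [Nat.add_mod]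
  intro i v hi
  have hlist : ∀ L : List ℕ, (∀ k ∈ L, k < 4) → ∀ v,
      L.foldr (fun k y => apR (kR X.ka X.kb (5 + k)) y) v % 512 =
        L.foldr (fun k y => apR ((gR (5 + k)).map (· % 512)) y) (v % 512) ∧
      L.foldr (fun k y => apR ((gR (5 + k)).map (· % 512)) y) (v % 512) < 512 := by
    intro L
    induction L with
    | nil => intro _ v; exact ⟨rfl, Nat.mod_lt _ (by norm_num)⟩
    | cons k L ih =>
      intro h v
      have hk : 5 + k < 9 := by have := h k (by simp); omega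
      obtain ⟨h1, -⟩ := ih (fun j hj => h j (List.mem_cons_of_mem _ hj)) v
      have hlt : ∀ x, apR ((gR (5 + k)).map (· % 512)) x < 512 := fun x =>
        apR_lt _ 9 x fun r hr => by
          obtain ⟨t, -, rfl⟩ := List.mem_map.mp hr
          exact Nat.mod_lt _ (by norm_num)
      refine ⟨?_, hlt _⟩
      simp only [List.foldr_cons]
      rw [← h1, kR, apR_mod _ _ _ (by rw [List.length_map]; exact gR_len hk) rfl, hmap, Nat.mod_eq_of_lt (hlt _)]
  have hs := seq_ok
  simp only [fSeq, Bool.and_eq_true, List.all_eq_true, List.mem_range] at hs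
  obtain ⟨hl, hr⟩ := hs.2 i hi
  show kS X.ka X.kb i v % 512 = _
  rw [kS, (hlist _ (fun _ hk => seqs_lt _ hk) v).1]
  have hlin : ∀ (L : List ℕ) (x y : ℕ), L.foldr (fun k y => apR ((gR (5 + k)).map (· % 512)) y) (Nat.xor x y) =
      Nat.xor (L.foldr (fun k y => apR ((gR (5 + k)).map (· % 512)) y) x)
        (L.foldr (fun k y => apR ((gR (5 + k)).map (· % 512)) y) y) := by
    intro L
    induction L with
    | nil => intro x y; rfl
    | cons k L ih => intro x y; simp only [List.foldr_cons, ih, apR_xor]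
  refine lin_ext Nat.xor (fun w => lS i w) (fun w => apR (sR i) w) (hlin _) (apR_xor _) ?_ 9 ?_ _
    (Nat.mod_lt _ (by norm_num))
  · have h0 : ∀ L : List ℕ, L.foldr (fun k y => apR ((gR (5 + k)).map (· % 512)) y) 0 = 0 := by
      intro L
      induction L with
      | nil => rfl
      | cons k L ih => rw [List.foldr_cons, ih, apR_zero]
    show lS i 0 = _
    rw [apR_zero]; exact h0 _
  · intro j hj
    show lS i (2 ^ j) = _
    rw [apR_pow]
    exact (Nat.eq_of_beq_eq_true (hr j hj).1).symm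

theorem pi_d_mul (c : C) : π (d * c) = π c := by rw [map_mul, X.d_pi, one_mul]

theorem pi_cases {a b : C} (h : π a = π b) : a = b ∨ a = d * b := by
  rcases (X.ker (a * b⁻¹)).mp (by rw [map_mul, map_inv, h, mul_inv_cancel]) with e | e
  · exact Or.inl (mul_inv_eq_one.mp e)
  · exact Or.inr (mul_inv_eq_iff_eq_mul.mp e)

theorem pi_low (m : ℕ) : π (X.vC m) = π (X.vC (m % 512)) := by
  have h0 := X.vC_low m false
  simp only [Bool.cond_false, Nat.add_zero, Bool.false_eq_true, if_false, mul_one] at h0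
  rw [h0]
  show π (X.vN 9 m * _) = _
  split_ifs with hb
  · rw [map_mul, show X.y 9 = d from if_neg (by norm_num), X.d_pi, mul_one]
  · rw [mul_one]

theorem pi_ow (m : ℕ) : π (X.el (ow m)) = π (X.vC (m % 512)) := by
  rw [← X.pi_low, X.el_ow]
  have h0 := X.vC_low m false
  simp only [Bool.cond_false, Nat.add_zero, Bool.false_eq_true, if_false, mul_one] at h0
  rw [X.pi_low m, h0]
  split_ifs <;> simp [X.d_pi]

theorem vC_mul (m k : ℕ) : X.vC m * X.vC k = X.vC (Nat.xor m k) := (X.vC_xor m k).symm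

theorem vC_sq (m : ℕ) : X.vC m * X.vC m = 1 := by
  rw [X.vC_mul, show Nat.xor m m = 0 from Nat.xor_self m, X.vC_zero]

theorem vC_inv (m : ℕ) : (X.vC m)⁻¹ = X.vC m := inv_eq_of_mul_eq_one_right (X.vC_sq m)

/-- The set of products. -/
def pSet : Set C := {c | ∃ e < 1024, ∃ i < 64, c = X.vC e * X.sC i}

theorem sC_zero : X.sC 0 = 1 := by
  have hs := seq_ok
  simp only [fSeq, Bool.and_eq_true] at hs
  have h0 : seqs.getD 0 [7] = [] := List.length_eq_zero_iff.mp (Nat.eq_of_beq_eq_true hs.1.2)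
  have h1 : seqs.getD 0 [] = [] := by
    have hl : seqs.length = 64 := Nat.eq_of_beq_eq_true hs.1.1.1
    rw [List.getD_eq_getElem _ _ (by omega)] at h0 ⊢
    exact h0
  rw [sC, sW, h1, List.flatMap_nil, X.el_nil]

theorem vC_mul_mem {c : C} (hc : c ∈ X.pSet) {m : ℕ} (hm : m < 1024) : X.vC m * c ∈ X.pSet := by
  obtain ⟨e, he, i, hi, rfl⟩ := hc
  exact ⟨Nat.xor m e, xor_lt (n := 10) hm he, i, hi, by rw [← mul_assoc, X.vC_mul]⟩

theorem gen_mul_mem {c : C} (hc : c ∈ X.pSet) {k : ℕ} (hk : k < 4) : X.el (gW (5 + k)) * c ∈ X.pSet := by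
  obtain ⟨e, he, i, hi, rfl⟩ := hc
  have h := List.all_eq_true.mp closed_ok k (List.mem_range.mpr hk)
  simp only [fClosed, Bool.and_eq_true, List.all_eq_true, List.mem_range] at h
  obtain ⟨⟨h1, h2⟩, h3⟩ := h i hi
  have hst := st_gW (k := 5 + k) (by omega)
  have e1 := X.el_pi (st_append hst (st_sW i)) (st_append (st_ow _) (st_sW _)) h3
  rw [X.el_append hst (st_sW i), X.el_append (st_ow _) (st_sW _)] at e1
  have e2 : π (X.el (gW (5 + k)) * X.sC i) = π (X.vC ((mEnt k i).1 % 512) * X.sC (mEnt k i).2) := by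
    rw [sC, sC, e1, map_mul, map_mul, X.pi_ow]
  have hmem : X.el (gW (5 + k)) * X.sC i ∈ X.pSet := by
    have hb : (mEnt k i).1 % 512 < 1024 := by omega
    have base : X.vC ((mEnt k i).1 % 512) * X.sC (mEnt k i).2 ∈ X.pSet := ⟨_, hb, _, blt_iff.mp h2, rfl⟩
    rcases X.pi_cases e2 with q | q <;> rw [q]
    · exact base
    · have h5 := X.vC_mul_mem base (m := 512) (by norm_num)
      rwa [X.vC_d] at h5
  rw [show X.el (gW (5 + k)) * (X.vC e * X.sC i) =
    X.el (gW (5 + k)) * X.vC e * (X.el (gW (5 + k)))⁻¹ * (X.el (gW (5 + k)) * X.sC i) by group,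
    X.conj_vC (by omega) e he]
  exact X.vC_mul_mem hmem (X.kR_lt (by omega) e)

theorem sC_mul_mem {c : C} (hc : c ∈ X.pSet) (i : ℕ) : X.sC i * c ∈ X.pSet := by
  have : ∀ L : List ℕ, (∀ k ∈ L, k < 4) → X.el (L.flatMap fun k => gW (5 + k)) * c ∈ X.pSet := by
    intro L
    induction L with
    | nil => intro _; simpa [el_nil] using hc
    | cons k L ih =>
      intro h
      have hk := h k (by simp)
      have hst : okSt (L.flatMap fun k => gW (5 + k)) = true := by
        rw [List.flatMap_def]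
        refine st_flat fun w hw => ?_
        obtain ⟨j, hj, rfl⟩ := List.mem_map.mp hw
        exact st_gW (by have := h j (List.mem_cons_of_mem _ hj); omega)
      rw [List.flatMap_cons, X.el_append (st_gW (by omega)) hst, mul_assoc]
      exact X.gen_mul_mem (ih fun j hj => h j (List.mem_cons_of_mem _ hj)) hk
  exact this _ fun _ hk => seqs_lt _ hk

theorem one_pSet : (1 : C) ∈ X.pSet := ⟨0, by norm_num, 0, by norm_num, by rw [X.vC_zero, X.sC_zero, one_mul]⟩

variable [Finite C]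

/-- The 2-subgroup of order 2^16. -/
noncomputable def P : Subgroup C :=
  have hm : ∀ {a b : C}, a ∈ X.pSet → b ∈ X.pSet → a * b ∈ X.pSet := fun {a b} ha hb => by
    obtain ⟨e, he, i, _, rfl⟩ := ha
    rw [mul_assoc]
    exact X.vC_mul_mem (X.sC_mul_mem hb i) he
  { carrier := X.pSet
    mul_mem' := hm
    one_mem' := X.one_pSet
    inv_mem' := fun {a} ha => by
      have hp : ∀ n : ℕ, a ^ n ∈ X.pSet := fun n => by
        induction n with
        | zero => rw [pow_zero]; exact X.one_pSet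
        | succ n ih => rw [pow_succ]; exact hm ih ha
      rw [inv_eq_of_mul_eq_one_right (b := a ^ (orderOf a - 1))
        (by rw [← pow_succ', Nat.sub_add_cancel (orderOf_pos a), pow_orderOf_eq_one])]
      exact hp _ }

theorem sR_len {i : ℕ} (hi : i < 64) : (sR i).length = 9 := by
  have hs := seq_ok
  simp only [fSeq, Bool.and_eq_true, List.all_eq_true, List.mem_range] at hs
  exact Nat.eq_of_beq_eq_true (hs.2 i hi).1

theorem rep_inj {e e' i i' : ℕ} (he : e < 1024) (he' : e' < 1024) (hi : i < 64) (hi' : i' < 64)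
    (h : X.vC e * X.sC i = X.vC e' * X.sC i') : e = e' ∧ i = i' := by
  have hii : i = i' := by
    by_contra hne
    have hc : ∀ j < 9, (sR i).getD j 0 = (sR i').getD j 0 := fun j hj => by
      have hv : (2 : ℕ) ^ j < 1024 := by
        calc 2 ^ j < 2 ^ 10 := Nat.pow_lt_pow_right (by norm_num) (by omega)
          _ = 1024 := rfl
      have e1 := congrArg (fun t => t * X.vC (2 ^ j) * t⁻¹) h
      have hcm : ∀ (a : ℕ), a < 1024 → ∀ k, X.vC a * X.sC k * X.vC (2 ^ j) * (X.vC a * X.sC k)⁻¹ =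
          X.vC (X.act k (2 ^ j)) := fun a ha k => by
        rw [mul_inv_rev, show X.vC a * X.sC k * X.vC (2 ^ j) * ((X.sC k)⁻¹ * (X.vC a)⁻¹) =
          X.vC a * (X.sC k * X.vC (2 ^ j) * (X.sC k)⁻¹) * (X.vC a)⁻¹ by group, X.conj_sC k hv, X.vC_inv, X.vC_mul,
          X.vC_mul]
        congr 1
        show (a ^^^ X.act k (2 ^ j)) ^^^ a = _
        rw [Nat.xor_comm a, Nat.xor_assoc, Nat.xor_self, Nat.xor_zero]
      simp only [hcm e he i, hcm e' he' i'] at e1
      have e2 := congrArg (· % 512) (X.vC_inj (X.act_lt _ hv) (X.act_lt _ hv) e1)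
      simp only [X.act_low _ _ hi, X.act_low _ _ hi'] at e2
      rwa [Nat.mod_eq_of_lt (show 2 ^ j < 512 by
        calc 2 ^ j < 2 ^ 9 := Nat.pow_lt_pow_right (by norm_num) hj
          _ = 512 := rfl), apR_pow, apR_pow] at e2
    have hl : sR i = sR i' := List.ext_getElem (by rw [X.sR_len hi, X.sR_len hi']) fun j h1 h2 => by
      have := hc j (by rw [X.sR_len hi] at h1; exact h1)
      rwa [List.getD_eq_getElem _ _ h1, List.getD_eq_getElem _ _ h2] at this
    have hd := distinct_ok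
    simp only [fDistinct, List.all_eq_true, List.mem_range, Bool.not_eq_true'] at hd
    rcases lt_or_gt_of_ne hne with q | q
    · have := hd i' hi' i q; rw [(leq_iff _ _).mpr hl.symm] at this; simp at this
    · have := hd i hi i' q; rw [(leq_iff _ _).mpr hl] at this; simp at this
  subst hii
  exact ⟨X.vC_inj he he' (mul_right_cancel h), rfl⟩

theorem card_P : Nat.card X.P = 2 ^ 16 := by
  let f : Fin 1024 × Fin 64 → C := fun q => X.vC q.1 * X.sC q.2
  have hf : Function.Injective f := fun a b h => by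
    obtain ⟨h1, h2⟩ := X.rep_inj a.1.2 b.1.2 a.2.2 b.2.2 h
    exact Prod.ext (Fin.ext h1) (Fin.ext h2)
  have hr : (X.P : Set C) = Set.range f := Set.ext fun c => by
    constructor
    · rintro ⟨e, he, i, hi, rfl⟩; exact ⟨(⟨e, he⟩, ⟨i, hi⟩), rfl⟩
    · rintro ⟨q, rfl⟩; exact ⟨q.1, q.1.2, q.2, q.2.2, rfl⟩
  rw [← SetLike.coe_sort_coe, hr, Nat.card_range_of_injective hf]
  simp

/-- The elementary abelian subgroup of rank ten. -/
noncomputable def A : Subgroup C where
  carrier := {c | ∃ m < 1024, c = X.vC m}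
  mul_mem' := by
    rintro a b ⟨m, hm, rfl⟩ ⟨k, hk, rfl⟩
    exact ⟨_, xor_lt (n := 10) hm hk, X.vC_mul m k⟩
  one_mem' := ⟨0, by norm_num, X.vC_zero.symm⟩
  inv_mem' := by
    rintro a ⟨m, hm, rfl⟩
    exact ⟨m, hm, X.vC_inv m⟩

theorem card_A : Nat.card X.A = 1024 := by
  have hr : (X.A : Set C) = Set.range fun q : Fin 1024 => X.vC q := Set.ext fun c => by
    constructor
    · rintro ⟨e, he, rfl⟩; exact ⟨⟨e, he⟩, rfl⟩
    · rintro ⟨q, rfl⟩; exact ⟨q, q.2, rfl⟩
  rw [← SetLike.coe_sort_coe, hr, Nat.card_range_of_injective fun a b h => Fin.ext (X.vC_inj a.2 b.2 h),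
    Nat.card_fin]

theorem A_le_P : X.A ≤ X.P := by
  rintro c ⟨m, hm, rfl⟩
  exact ⟨m, hm, 0, by norm_num, by rw [X.sC_zero, mul_one]⟩

theorem A_elem : Cfsg.IsElementaryAbelian 2 X.A := by
  refine ⟨⟨⟨fun a b => Subtype.ext ?_⟩⟩, ?_⟩
  · obtain ⟨m, hm, ha⟩ := a.2
    obtain ⟨k, hk, hb⟩ := b.2
    show (a : C) * b = b * a
    rw [ha, hb, X.vC_mul, X.vC_mul]
    exact congrArg X.vC (Nat.xor_comm m k)
  · rintro a ⟨m, hm, rfl⟩
    rw [pow_two, X.vC_sq]

theorem sInv_of {i : ℕ} (hi : i < 64) (h : ∀ v < 1024, X.act i (X.act i v) = v) : sInv i = true := by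
  rw [sInv, leq_iff, sComp]
  refine List.ext_getElem (by simp [X.sR_len hi]) fun j h1 h2 => ?_
  simp only [List.length_map, X.sR_len hi] at h1
  simp only [List.getElem_map, List.getElem_range]
  have hp : (2 : ℕ) ^ j < 512 := by
    calc 2 ^ j < 2 ^ 9 := Nat.pow_lt_pow_right (by norm_num) h1
      _ = 512 := rfl
  have := congrArg (· % 512) (h (2 ^ j) (by omega))
  simp only [X.act_low _ _ hi, Nat.mod_eq_of_lt hp, apR_pow] at this
  rwa [List.getD_eq_getElem _ _ (by rw [X.sR_len hi]; exact h1)] at this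

theorem sCom_of {i k : ℕ} (hi : i < 64) (hk : k < 64) (h : ∀ v < 1024, X.act i (X.act k v) = X.act k (X.act i v)) :
    sCom i k = true := by
  rw [sCom, leq_iff, sComp, sComp]
  refine List.ext_getElem (by simp [X.sR_len hi, X.sR_len hk]) fun j h1 h2 => ?_
  simp only [List.length_map, X.sR_len hk] at h1
  simp only [List.getElem_map]
  have hp : (2 : ℕ) ^ j < 512 := by
    calc 2 ^ j < 2 ^ 9 := Nat.pow_lt_pow_right (by norm_num) h1
      _ = 512 := rfl
  have := congrArg (· % 512) (h (2 ^ j) (by omega))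
  simp only [X.act_low _ _ hi, X.act_low _ _ hk, Nat.mod_eq_of_lt hp, apR_pow] at this
  rwa [List.getD_eq_getElem _ _ (by rw [X.sR_len hk]; exact h1),
    List.getD_eq_getElem _ _ (by rw [X.sR_len hi]; exact h1)] at this

theorem conj_rep {e i v : ℕ} (he : e < 1024) (hv : v < 1024) :
    X.vC e * X.sC i * X.vC v * (X.vC e * X.sC i)⁻¹ = X.vC (X.act i v) := by
  rw [mul_inv_rev, show X.vC e * X.sC i * X.vC v * ((X.sC i)⁻¹ * (X.vC e)⁻¹) =
    X.vC e * (X.sC i * X.vC v * (X.sC i)⁻¹) * (X.vC e)⁻¹ by group, X.conj_sC i hv, X.vC_inv, X.vC_mul, X.vC_mul]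
  congr 1
  show (e ^^^ X.act i v) ^^^ e = _
  rw [Nat.xor_comm e, Nat.xor_assoc, Nat.xor_self, Nat.xor_zero]

theorem elem_eq {Y : Subgroup C} (hY : Cfsg.IsElementaryAbelian 2 Y) (hle : Y ≤ X.P)
    (hc : 1024 ≤ Nat.card Y) : Y = X.A := by
  classical
  haveI : Fintype C := Fintype.ofFinite C
  suffices hA : Y ≤ X.A by
    exact Subgroup.eq_of_le_of_card_ge hA (by rw [X.card_A]; exact hc)
  have hmem : ∀ x : Y, ∃ q : ℕ × ℕ, q.1 < 1024 ∧ q.2 < 64 ∧ (x : C) = X.vC q.1 * X.sC q.2 := fun x => by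
    obtain ⟨e, he, i, hi, hx⟩ := hle x.2
    exact ⟨(e, i), he, hi, hx⟩
  choose q hq1 hq2 hq using hmem
  let idx : Y → ℕ := fun x => (q x).2
  have hcomm : ∀ x z : Y, (x : C) * z = z * x := fun x z => congrArg Subtype.val (hY.1.is_comm.comm x z)
  have hsq : ∀ x : Y, (x : C) * x = 1 := fun x => by rw [← pow_two]; exact hY.2 x x.2
  have hact : ∀ (x : Y) (v : ℕ), v < 1024 → (x : C) * X.vC v * (x : C)⁻¹ = X.vC (X.act (idx x) v) := fun x v hv => by
    rw [hq x]; exact X.conj_rep (hq1 x) hv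
  have hinv : ∀ x : Y, sInv (idx x) = true := fun x => X.sInv_of (hq2 x) fun v hv => by
    refine X.vC_inj (X.act_lt _ (X.act_lt _ hv)) hv ?_
    rw [← hact x _ (X.act_lt _ hv), ← hact x v hv,
      show (x : C) * ((x : C) * X.vC v * (x : C)⁻¹) * (x : C)⁻¹ = (x : C) * x * X.vC v * ((x : C) * x)⁻¹ by group,
      hsq x, one_mul, inv_one, mul_one]
  have hcom : ∀ x z : Y, sCom (idx x) (idx z) = true := fun x z => X.sCom_of (hq2 x) (hq2 z) fun v hv => by
    refine X.vC_inj (X.act_lt _ (X.act_lt _ hv)) (X.act_lt _ (X.act_lt _ hv)) ?_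
    rw [← hact x _ (X.act_lt _ hv), ← hact z v hv, ← hact z _ (X.act_lt _ hv), ← hact x v hv,
      show (x : C) * ((z : C) * X.vC v * (z : C)⁻¹) * (x : C)⁻¹ = (x : C) * z * X.vC v * ((x : C) * z)⁻¹ by group,
      hcomm x z]
    group
  set F : Finset ℕ := (Finset.range 1024).filter fun v => X.vC v ∈ Y with hF
  set I : Finset ℕ := (Finset.univ : Finset Y).image idx with hI
  have hfib : ∀ a ∈ I, ((Finset.univ : Finset Y).filter fun x => idx x = a).card ≤ F.card := by
    intro a ha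
    obtain ⟨x₀, -, rfl⟩ := Finset.mem_image.mp ha
    refine Finset.card_le_card_of_injOn (fun x => Nat.xor (q x).1 (q x₀).1) (fun x hx => ?_) ?_
    · rw [Finset.coe_filter] at hx
      have hx2 : idx x = idx x₀ := hx.2
      refine Finset.mem_coe.mpr (Finset.mem_filter.mpr ⟨Finset.mem_range.mpr (xor_lt (n := 10) (hq1 x) (hq1 x₀)), ?_⟩)
      rw [← X.vC_mul]
      have := mul_mem x.2 (inv_mem x₀.2)
      rw [hq x, hq x₀, mul_inv_rev, X.vC_inv] at this
      rwa [show (q x).2 = (q x₀).2 from hx2, mul_assoc, mul_inv_cancel_left] at this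
    · intro x hx z hz he
      rw [Finset.coe_filter] at hx hz
      have e1 : (q x).1 = (q z).1 := Nat.xor_right_injective.eq_iff.mp (by
        show (q x₀).1 ^^^ (q x).1 = (q x₀).1 ^^^ (q z).1
        rw [Nat.xor_comm, Nat.xor_comm (q x₀).1]
        exact he)
      exact Subtype.ext (by rw [hq x, hq z, e1, show (q x).2 = (q z).2 from hx.2.trans hz.2.symm])
  have hcard : Nat.card Y ≤ F.card * I.card := by
    rw [Nat.card_eq_fintype_card, ← Finset.card_univ]
    exact Finset.card_le_mul_card_image _ _ hfib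
  have hfix : ∀ (x : Y), ∀ v ∈ F, Nat.beq (apR (sR (idx x)) (v % 512)) (v % 512) = true := fun x v hv => by
    obtain ⟨hv1, hv2⟩ := Finset.mem_filter.mp hv
    have hv3 := Finset.mem_range.mp hv1
    have e : X.act (idx x) v = v := X.vC_inj (X.act_lt _ hv3) hv3 (by
      rw [← hact x v hv3, hcomm x ⟨_, hv2⟩, mul_inv_cancel_right])
    have h5 : X.act (idx x) v % 512 = v % 512 := by rw [e]
    rw [X.act_low _ _ (hq2 x)] at h5
    rw [h5]; simp
  have hhalf : ∀ (S : List ℕ) (f : ℕ → Bool), (∀ v ∈ F, f (v % 512) = true) →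
      S = List.range 512 → F.card ≤ 2 * S.countP f := fun S f hf hS => by
    subst hS
    have hc2 : (List.range 512).countP f = ((Finset.range 512).filter fun v => f v = true).card := by
      rw [List.countP_eq_length_filter, Finset.card_def]
      show _ = Multiset.card (Multiset.filter _ (Multiset.range 512))
      rw [Multiset.range, Multiset.filter_coe, Multiset.coe_card]
      simp
    rw [hc2]
    refine le_trans (Finset.card_le_card_of_injOn (fun v => (v / 512, v % 512))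
      (t := Finset.range 2 ×ˢ ((Finset.range 512).filter fun v => f v = true)) (fun v hv => ?_) ?_) ?_
    · have hv1 := Finset.mem_range.mp (Finset.mem_filter.mp hv).1
      exact Finset.mem_coe.mpr (Finset.mem_product.mpr ⟨Finset.mem_range.mpr (show v / 512 < 2 by omega),
        Finset.mem_filter.mpr ⟨Finset.mem_range.mpr (Nat.mod_lt _ (by norm_num)), hf v hv⟩⟩)
    · intro a _ b _ h
      rw [← Nat.div_add_mod a 512, ← Nat.div_add_mod b 512]
      simp only [Prod.mk.injEq] at h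
      rw [h.1, h.2]
    · rw [Finset.card_product, Finset.card_range]
  have hel := elem_ok
  simp only [fElem, Bool.and_eq_true, List.all_eq_true, List.mem_range, Bool.or_eq_true, Bool.not_eq_true'] at hel
  obtain ⟨⟨hlen, h16⟩, hall⟩ := hel
  have hIlt : ∀ a ∈ I, a < 64 ∧ sInv a = true := fun a ha => by
    obtain ⟨x, -, rfl⟩ := Finset.mem_image.mp ha
    exact ⟨hq2 x, hinv x⟩
  have hIcom : ∀ a ∈ I, ∀ b ∈ I, sCom a b = true := fun a ha b hb => by
    obtain ⟨x, -, rfl⟩ := Finset.mem_image.mp ha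
    obtain ⟨z, -, rfl⟩ := Finset.mem_image.mp hb
    exact hcom x z
  have hone : ∀ a ∈ I, (a = 0 ∨ nFix a ≤ 32) ∧ ∀ b ∈ I, (∃ L ∈ maxEl, a ∈ L ∧ b ∈ L) ∧
      (a = 0 ∨ b = 0 ∨ a = b ∨ nFix2 a b ≤ 16) := fun a ha => by
    obtain ⟨h1, h2⟩ := hIlt a ha
    obtain ⟨⟨hn, -⟩, hp⟩ := (hall a h1).resolve_left (by rw [h2]; simp)
    refine ⟨hn.imp Nat.eq_of_beq_eq_true Nat.le_of_ble_eq_true, fun b hb => ?_⟩
    obtain ⟨g1, g2⟩ := hIlt b hb
    have hp' := hp b g1
    rw [g2, hIcom a ha b hb] at hp'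
    simp only [Bool.true_eq_false, false_or, List.any_eq_true, Bool.and_eq_true, List.contains_iff_mem] at hp'
    refine ⟨hp'.1, ?_⟩
    rcases hp'.2 with ((e | e) | e) | e
    exacts [Or.inl (Nat.eq_of_beq_eq_true e), Or.inr (Or.inl (Nat.eq_of_beq_eq_true e)),
      Or.inr (Or.inr (Or.inl (Nat.eq_of_beq_eq_true e))), Or.inr (Or.inr (Or.inr (Nat.le_of_ble_eq_true e)))]
  have hI16 : I.card ≤ 16 := by
    rcases I.eq_empty_or_nonempty with e | ⟨a₀, ha₀⟩
    · simp [e]
    obtain ⟨L0, L1, hL⟩ : ∃ L0 L1, maxEl = [L0, L1] := List.length_eq_two.mp (Nat.eq_of_beq_eq_true hlen)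
    rw [hL] at h16
    have hsub : (∀ a ∈ I, a ∈ L0) ∨ ∀ a ∈ I, a ∈ L1 := by
      by_contra hn
      push_neg at hn
      obtain ⟨⟨a, ha, ha0⟩, b, hb, hb1⟩ := hn
      obtain ⟨L, hLm, haL, hbL⟩ := ((hone a ha).2 b hb).1
      rw [hL] at hLm
      simp only [List.mem_cons, List.not_mem_nil, or_false] at hLm
      rcases hLm with rfl | rfl
      exacts [ha0 haL, hb1 hbL]
    rcases hsub with h | h
    · refine le_trans (Finset.card_le_card (t := L0.toFinset) fun a ha => List.mem_toFinset.mpr (h a ha)) ?_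
      exact le_trans (List.toFinset_card_le L0) (Nat.eq_of_beq_eq_true (h16 L0 (by simp))).le
    · refine le_trans (Finset.card_le_card (t := L1.toFinset) fun a ha => List.mem_toFinset.mpr (h a ha)) ?_
      exact le_trans (List.toFinset_card_le L1) (Nat.eq_of_beq_eq_true (h16 L1 (by simp))).le
  by_cases hz : I ⊆ {0}
  · intro c hcY
    have h0 : (q ⟨c, hcY⟩).2 = 0 :=
      Finset.mem_singleton.mp (hz (Finset.mem_image.mpr ⟨⟨c, hcY⟩, Finset.mem_univ _, rfl⟩))
    exact ⟨_, hq1 ⟨c, hcY⟩, (hq ⟨c, hcY⟩).trans (by rw [h0, X.sC_zero, mul_one])⟩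
  exfalso
  obtain ⟨a, ha, ha0⟩ := Finset.not_subset.mp hz
  rw [Finset.mem_singleton] at ha0
  obtain ⟨xa, -, hxa⟩ := Finset.mem_image.mp ha
  have hF1 : F.card ≤ 64 := by
    have := hhalf _ (fun v => Nat.beq (apR (sR a) v) v) (fun v hv => by rw [← hxa]; exact hfix xa v hv) rfl
    have h32 : nFix a ≤ 32 := (hone a ha).1.resolve_left ha0
    unfold nFix at h32
    omega
  by_cases hI2 : I.card ≤ 2
  · have := Nat.mul_le_mul hF1 hI2
    omega
  have hsdiff : ((I.erase 0).erase a).Nonempty := by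
    rw [← Finset.card_pos]
    have h1 := Finset.pred_card_le_card_erase (s := I) (a := 0)
    have h2 := Finset.pred_card_le_card_erase (s := I.erase 0) (a := a)
    omega
  obtain ⟨b, hb⟩ := hsdiff
  simp only [Finset.mem_erase] at hb
  obtain ⟨xb, -, hxb⟩ := Finset.mem_image.mp hb.2.2
  have hF2 : F.card ≤ 32 := by
    have := hhalf _ (fun v => Nat.beq (apR (sR a) v) v && Nat.beq (apR (sR b) v) v) (fun v hv => by
      rw [← hxa, ← hxb, Bool.and_eq_true]; exact ⟨hfix xa v hv, hfix xb v hv⟩) rfl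
    have h16' : nFix2 a b ≤ 16 := by
      rcases ((hone a ha).2 b hb.2.2).2 with e | e | e | e
      exacts [absurd e ha0, absurd e hb.2.1, absurd e.symm hb.1, e]
    unfold nFix2 at h16'
    omega
  have := Nat.mul_le_mul hF2 hI16
  omega

theorem invol_mem {t : C} (ht : t * t = 1) (htP : t ∈ X.P) : ∃ c : C, c * t * c⁻¹ ∈ X.A := by
  obtain ⟨e, he, i, hi, rfl⟩ := htP
  by_cases hi0 : i = 0
  · exact ⟨1, by rw [hi0, X.sC_zero, one_mul, mul_one, inv_one, mul_one]; exact ⟨e, he, rfl⟩⟩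
  set t := X.vC e * X.sC i with htd
  have hinv : sInv i = true := X.sInv_of hi fun v hv => by
    refine X.vC_inj (X.act_lt _ (X.act_lt _ hv)) hv ?_
    rw [← X.conj_rep he (X.act_lt _ hv), ← X.conj_rep he hv, ← htd,
      show t * (t * X.vC v * t⁻¹) * t⁻¹ = t * t * X.vC v * (t * t)⁻¹ by group, ht, one_mul, inv_one, mul_one]
  have hs := split_ok
  simp only [fSplit, List.all_eq_true, List.mem_range, Bool.or_eq_true, Bool.not_eq_true', List.any_eq_true] at hs
  rcases hs i hi with (h | h) | ⟨ent, hent, he1⟩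
  · rw [hinv] at h; simp at h
  · exact absurd (Nat.eq_of_beq_eq_true h) hi0
  obtain ⟨n, hn, rfl⟩ := List.getElem_of_mem hent
  have hlen : invs.length = 27 := Nat.eq_of_beq_eq_true invs_len
  have hf := List.all_eq_true.mp invol_ok n (List.mem_range.mpr (by omega))
  simp only [fInvol, List.getD_eq_getElem _ _ hn, Bool.and_eq_true, Bool.or_eq_true, List.all_eq_true,
    List.mem_range, Bool.not_eq_true', List.any_eq_true] at hf
  obtain ⟨⟨⟨hsqW, hsq⟩, hrs⟩, hcov⟩ := hf
  have hii : (invs[n]).1 = i := Nat.eq_of_beq_eq_true he1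
  rw [hii] at hsqW hrs hcov
  set sq := (invs[n]).2.1
  have hsq' : sq < 512 := blt_iff.mp hsq
  have hpis : π (X.sC i * X.sC i) = π (X.vC sq) := by
    rcases hsqW with h | h
    · have := X.el_pi (st_append (st_sW i) (st_sW i)) (st_ow _) h
      rwa [X.el_append (st_sW i) (st_sW i), X.pi_ow, Nat.mod_eq_of_lt hsq'] at this
    · have := X.el_pi (st_append (st_sW i) (st_sW i)) (st_ow _) h
      rwa [X.el_append (st_sW i) (st_sW i), X.pi_ow, Nat.add_mod_right, Nat.mod_eq_of_lt hsq'] at this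
  have hw : Nat.beq (Nat.xor (Nat.xor (e % 512) (apR (sR i) (e % 512))) sq) 0 = true := by
    have hval : Nat.xor (Nat.xor (e % 512) (apR (sR i) (e % 512))) sq = Nat.xor (Nat.xor e (X.act i e)) sq % 512 := by
      rw [← X.act_low i e hi]
      show (e % 512 ^^^ X.act i e % 512) ^^^ sq = ((e ^^^ X.act i e) ^^^ sq) % 512
      apply Nat.eq_of_testBit_eq
      intro b
      rw [show (512 : ℕ) = 2 ^ 9 from rfl]
      simp only [Nat.testBit_mod_two_pow, Nat.testBit_xor]
      by_cases hb : b < 9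
      · simp [hb]
      · simp only [hb, decide_false, Bool.false_and, Bool.xor_false, Bool.false_xor]
        exact Nat.testBit_lt_two_pow (lt_of_lt_of_le (show sq < 2 ^ 9 by norm_num; exact hsq') (Nat.pow_le_pow_right (by norm_num) (by omega)))
    have h0 : π (X.vC (Nat.xor (Nat.xor e (X.act i e)) sq % 512)) = 1 := by
      rw [← X.pi_low, X.vC_xor, map_mul, ← hpis, ← map_mul,
        show X.vC (Nat.xor e (X.act i e)) * (X.sC i * X.sC i) = t * t by
          rw [X.vC_xor, ← X.conj_sC i he, htd]; group, ht, map_one]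
    rw [hval, X.inj_low (Nat.mod_lt _ (by norm_num)) h0]; rfl
  obtain ⟨r, hr, c, hc, hrc⟩ := (hcov (e % 512) (Nat.mod_lt _ (by norm_num))).resolve_left (by rw [hw]; simp)
  obtain ⟨⟨⟨hr1, hr2⟩, hu⟩, hconj⟩ := hrs r hr
  have hrc' : Nat.xor (Nat.xor r.1 c) (apR (sR i) c) = e % 512 := Nat.eq_of_beq_eq_true hrc
  refine ⟨X.el r.2.1 * X.vC c, ?_⟩
  have hc' : c < 1024 := by omega
  have ht' : X.vC c * t * (X.vC c)⁻¹ = X.vC (Nat.xor (Nat.xor c e) (X.act i c)) * X.sC i := by
    rw [X.vC_xor, X.vC_xor, ← X.conj_sC i hc', X.vC_inv, htd]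
    group
  have hlow : Nat.xor (Nat.xor c e) (X.act i c) % 512 = r.1 := by
    have h1 : Nat.xor (Nat.xor c e) (X.act i c) % 512 = Nat.xor (Nat.xor (c % 512) (e % 512)) (X.act i c % 512) := by
      show ((c ^^^ e) ^^^ X.act i c) % 512 = (c % 512 ^^^ e % 512) ^^^ X.act i c % 512
      apply Nat.eq_of_testBit_eq
      intro b
      rw [show (512 : ℕ) = 2 ^ 9 from rfl]
      simp only [Nat.testBit_mod_two_pow, Nat.testBit_xor]
      cases decide (b < 9) <;> simp
    rw [h1, X.act_low i c hi, Nat.mod_eq_of_lt hc, ← hrc']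
    show (c ^^^ ((r.1 ^^^ c) ^^^ apR (sR i) c)) ^^^ apR (sR i) c = r.1
    apply Nat.eq_of_testBit_eq
    intro b
    simp only [Nat.testBit_xor]
    cases c.testBit b <;> cases r.1.testBit b <;> cases (apR (sR i) c).testBit b <;> rfl
  have hfin : π (X.el r.2.1 * X.vC c * t * (X.el r.2.1 * X.vC c)⁻¹) = π (X.vC (r.2.2 % 512)) := by
    rw [← X.pi_ow, ← X.el_pi (st_append (st_append hu (st_append (st_ow _) (st_sW i))) (st_rev hu)) (st_ow _) hconj,
      X.el_conj hu (st_append (st_ow _) (st_sW i)), X.el_append (st_ow _) (st_sW i),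
      show X.el r.2.1 * X.vC c * t * (X.el r.2.1 * X.vC c)⁻¹ =
        X.el r.2.1 * (X.vC c * t * (X.vC c)⁻¹) * (X.el r.2.1)⁻¹ by group, ht', map_mul, map_mul, map_mul, map_mul,
      map_mul, map_mul, X.pi_low, hlow, X.pi_ow, Nat.mod_eq_of_lt (blt_iff.mp hr1)]
    rfl
  have hm : r.2.2 % 512 < 1024 := by omega
  rcases X.pi_cases hfin with h | h
  · exact ⟨_, hm, h⟩
  · rw [h]
    exact mul_mem ⟨512, by norm_num, X.vC_d.symm⟩ ⟨_, hm, rfl⟩

end Ctx

end CfsgLib.CosetEnum.U62Thompson
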