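/-
Conjugates of the central involution in the elementary abelian subgroup of rank ten.
-/
import Cfsg.Agent.Lib.CosetEnum.U62Thompson.Sylow
import Cfsg.Agent.Lib.CosetEnum.U62Thompson.ChecksB

set_option autoImplicit false
set_option maxRecDepth 1000000

universe u

namespace CfsgLib.CosetEnum.U62Thompson

open Cfsg U62Mult

attribute [local irreducible] Fi22Mult.gU Fi22Mult.dCoord

theorem tables (a b : Bool) (h : a = true ∨ b = true) :
    fOrbit a b = true ∧ fLam a b = true ∧ fFixed a b = true ∧ oMask a b 1 = 2 ^ 512 := by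
  cases a <;> cases b
  · simp at h
  · exact ⟨orbit_b, lam_b, fixed_b, mid_b⟩
  · exact ⟨orbit_a, lam_a, fixed_a, mid_a⟩
  · exact ⟨orbit_c, lam_c, fixed_c, mid_c⟩

theorem bit_foldl (f : ℕ → ℕ) (o i : ℕ) : ∀ (L : List ℕ) (s : ℕ),
    bit (L.foldl (fun acc k => bif bit o k then Nat.lor acc (f k) else acc) s) i =
      (bit s i || L.any fun k => bit o k && bit (f k) i)
  | [], s => by simp
  | k :: L, s => by
    rw [List.foldl_cons, bit_foldl f o i L, List.any_cons]
    cases bit o k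
    · simp
    · simp only [Bool.cond_true, Bool.true_and]
      rw [show bit (Nat.lor s (f k)) i = (bit s i || bit (f k) i) by
        rw [bit_eq, bit_eq, bit_eq]; exact Nat.testBit_lor .., Bool.or_assoc]

theorem count_range (N : ℕ) (p : ℕ → Prop) [DecidablePred p] (f : ℕ → Bool) (h : ∀ y, f y = true ↔ p y) :
    (List.range N).countP f = ((Finset.range N).filter p).card := by
  rw [List.countP_eq_length_filter, Finset.card_def]
  show _ = Multiset.card (Multiset.filter _ (Multiset.range N))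
  rw [Multiset.range, Multiset.filter_coe, Multiset.coe_card]
  refine congrArg List.length (List.filter_congr fun y _ => ?_)
  rw [Bool.eq_iff_iff, decide_eq_true_iff]
  exact h y

theorem count_fin (N : ℕ) (p : ℕ → Prop) [DecidablePred p] (f : ℕ → Bool) (h : ∀ y, f y = true ↔ p y) :
    ((Finset.univ : Finset (Fin N)).filter fun m : Fin N => p (m : ℕ)).card = (List.range N).countP f := by
  rw [count_range N p f h]
  refine Finset.card_bij (fun m _ => (m : ℕ)) (fun m hm => ?_) (fun _ _ _ _ e => Fin.ext e) fun m hm => ?_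
  · exact Finset.mem_filter.mpr ⟨Finset.mem_range.mpr m.2, (Finset.mem_filter.mp hm).2⟩
  · obtain ⟨h5, h6⟩ := Finset.mem_filter.mp hm
    exact ⟨⟨m, Finset.mem_range.mp h5⟩, Finset.mem_filter.mpr ⟨Finset.mem_univ _, h6⟩, rfl⟩

theorem sum_fin (N : ℕ) (f : ℕ → ℕ) : ∑ i : Fin N, f (i : ℕ) = ((List.range N).map f).sum := by
  rw [Fin.sum_univ_eq_sum_range, Finset.sum, Finset.range_val, Multiset.range, Multiset.map_coe, Multiset.sum_coe]

theorem bits_exist : ∀ f : Fin 5 → Bool, ∃ o : Fin 32, ∀ k : Fin 5, bit o k = f k := by decide +kernel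

theorem full_bits : ∀ k : Fin 5, bit 31 k = true := by decide

variable {G : Type u} [Group G] [Finite G] {C : Type u} [Group C] [Finite C] {U : Type u} [Group U]
  {π : C →* U} {d : C} (X : Ctx π d) (ι : C →* G) (hι : Function.Injective ι)
  (hran : ∀ x : G, Commute x (ι d) → x ∈ ι.range) (hC : Nat.card C = 18393661440)

include hC in
/-- Two-subgroups of the double cover are conjugate into the Sylow subgroup. -/
theorem conj_into {Q : Subgroup C} (hQ : IsPGroup 2 Q) : ∃ c : C, Q.map (MulAut.conj c).toMonoidHom ≤ X.P := by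
  haveI : Fact (Nat.Prime 2) := ⟨Nat.prime_two⟩
  obtain ⟨S₀, hS₀⟩ := (IsPGroup.of_card (n := 16) X.card_P).exists_le_sylow
  have hS : (S₀ : Subgroup C) = X.P := by
    refine (Subgroup.eq_of_le_of_card_ge hS₀ ?_).symm
    obtain ⟨k, hk⟩ := S₀.2.exists_card_eq
    have hd := Subgroup.card_subgroup_dvd_card (S₀ : Subgroup C)
    rw [hC, show S₀.toSubgroup = (S₀ : Subgroup C) from rfl] at hd
    rw [show Nat.card (S₀ : Subgroup C) = 2 ^ k from hk] at hd ⊢
    rw [X.card_P]
    refine Nat.pow_le_pow_right (by norm_num) ?_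
    by_contra hlt
    have h17 : 2 ^ 17 ∣ 18393661440 := (pow_dvd_pow 2 (by omega)).trans hd
    norm_num at h17
  obtain ⟨S₁, hS₁⟩ := hQ.exists_le_sylow
  obtain ⟨c, hc⟩ := MulAction.exists_smul_eq C S₁ S₀
  refine ⟨c, ?_⟩
  rw [← hS, ← hc]
  exact Subgroup.map_mono hS₁

include hC in
theorem elem_conj {Y : Subgroup C} (hY : Cfsg.IsElementaryAbelian 2 Y) :
    Nat.card Y ≤ 1024 ∧ (1024 ≤ Nat.card Y → ∃ c : C, Y.map (MulAut.conj c).toMonoidHom = X.A) := by
  obtain ⟨c, hc⟩ := conj_into X hC (Q := Y) (fun a => ⟨1, Subtype.ext (by simpa using hY.2 a a.2)⟩)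
  set Y' := Y.map (MulAut.conj c).toMonoidHom
  have hcard : Nat.card Y' = Nat.card Y := Nat.card_congr (Subgroup.equivMapOfInjective _ _ (MulAut.conj c).injective).symm.toEquiv
  have hY' : Cfsg.IsElementaryAbelian 2 Y' := by
    refine ⟨⟨⟨fun a b => Subtype.ext ?_⟩⟩, ?_⟩
    · obtain ⟨a₀, ha, e1⟩ := Subgroup.mem_map.mp a.2
      obtain ⟨b₀, hb, e2⟩ := Subgroup.mem_map.mp b.2
      show (a : C) * b = b * a
      rw [← e1, ← e2, ← map_mul, ← map_mul]
      exact congrArg _ (congrArg Subtype.val (hY.1.is_comm.comm ⟨a₀, ha⟩ ⟨b₀, hb⟩))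
    · rintro a ha
      obtain ⟨a₀, ha₀, rfl⟩ := Subgroup.mem_map.mp ha
      rw [← map_pow, hY.2 a₀ ha₀, map_one]
  refine ⟨?_, fun h => ⟨c, X.elem_eq hY' hc (by rw [hcard]; exact h)⟩⟩
  by_contra hn
  have h := X.elem_eq hY' hc (by rw [hcard]; omega)
  rw [h, X.card_A] at hcard
  omega

include hC in
theorem invol_conj {t : C} (ht : t * t = 1) : ∃ c : C, c * t * c⁻¹ ∈ X.A := by
  obtain ⟨c, hc⟩ := conj_into X hC (Q := Subgroup.zpowers t) (fun a => ⟨1, Subtype.ext (by
    obtain ⟨k, hk⟩ := Subgroup.mem_zpowers_iff.mp a.2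
    rw [SubmonoidClass.coe_pow, ← hk, pow_one, OneMemClass.coe_one, ← zpow_natCast, ← zpow_mul, mul_comm, zpow_mul]
    simp [pow_two, ht])⟩)
  have hP : c * t * c⁻¹ ∈ X.P := hc ⟨t, Subgroup.mem_zpowers t, rfl⟩
  obtain ⟨c', hc'⟩ := X.invol_mem (t := c * t * c⁻¹) (by
    rw [show c * t * c⁻¹ * (c * t * c⁻¹) = c * (t * t) * c⁻¹ by group, ht, mul_one, mul_inv_cancel]) hP
  exact ⟨c' * c, by rw [mul_inv_rev, show c' * c * t * (c⁻¹ * c'⁻¹) = c' * (c * t * c⁻¹) * c'⁻¹ by group]; exact hc'⟩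

include hran hι hC in
/-- An element conjugate to the central involution inside the subgroup is conjugate in its normaliser. -/
theorem conj_norm {x : G} (hx : x ∈ X.A.map ι) (h : IsConj (ι d) x) :
    ∃ n ∈ Subgroup.normalizer ((X.A.map ι : Subgroup G) : Set G), n * ι d * n⁻¹ = x := by
  obtain ⟨g, hg⟩ := isConj_iff.mp h
  set A := X.A.map ι with hAd
  have hab : ∀ a ∈ A, Commute a x := by
    rintro a ⟨a₀, ha, rfl⟩
    obtain ⟨x₀, hx₀, rfl⟩ := hx
    show ι a₀ * ι x₀ = ι x₀ * ι a₀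
    rw [← map_mul, ← map_mul]
    exact congrArg ι (congrArg Subtype.val (X.A_elem.1.is_comm.comm ⟨a₀, ha⟩ ⟨x₀, hx₀⟩))
  let Y : Subgroup C := (A.map (MulAut.conj g⁻¹).toMonoidHom).comap ι
  have hmap : Y.map ι = A.map (MulAut.conj g⁻¹).toMonoidHom := by
    refine Subgroup.map_comap_eq_self ?_
    rintro y ⟨a, ha, rfl⟩
    refine hran _ ?_
    show g⁻¹ * a * g⁻¹⁻¹ * ι d = ι d * (g⁻¹ * a * g⁻¹⁻¹)
    have e := (hab a ha).eq
    rw [← hg] at e
    rw [inv_inv]
    calc g⁻¹ * a * g * ι d = g⁻¹ * (a * (g * ι d * g⁻¹)) * g := by group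
      _ = g⁻¹ * (g * ι d * g⁻¹ * a) * g := by rw [e]
      _ = ι d * (g⁻¹ * a * g) := by group
  have hcardY : Nat.card Y = 1024 := by
    rw [← X.card_A, Nat.card_congr (Subgroup.equivMapOfInjective Y ι hι).toEquiv, hmap,
      Subgroup.card_map_of_injective (MulAut.conj g⁻¹).injective, hAd, Subgroup.card_map_of_injective hι]
  have hYel : Cfsg.IsElementaryAbelian 2 Y := by
    refine ⟨⟨⟨fun a b => Subtype.ext (hι ?_)⟩⟩, fun a ha => hι ?_⟩
    · obtain ⟨_, ⟨a', ha', rfl⟩, e1⟩ := Subgroup.mem_map.mp (show ι a ∈ A.map (MulAut.conj g⁻¹).toMonoidHom from a.2)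
      obtain ⟨_, ⟨b', hb', rfl⟩, e2⟩ := Subgroup.mem_map.mp (show ι b ∈ A.map (MulAut.conj g⁻¹).toMonoidHom from b.2)
      show ι ((a : C) * b) = ι ((b : C) * a)
      rw [map_mul, map_mul, ← e1, ← e2, ← map_mul, ← map_mul, ← map_mul, ← map_mul]
      exact congrArg _ (congrArg ι (congrArg Subtype.val (X.A_elem.1.is_comm.comm ⟨a', ha'⟩ ⟨b', hb'⟩)))
    · obtain ⟨_, ⟨a', ha', rfl⟩, e1⟩ := Subgroup.mem_map.mp (show ι a ∈ A.map (MulAut.conj g⁻¹).toMonoidHom from ha)
      rw [map_pow, ← e1, ← map_pow, ← map_pow, X.A_elem.2 a' ha', map_one, map_one]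
  obtain ⟨c, hc⟩ := (elem_conj X hC hYel).2 hcardY.ge
  have hA : A = A.map (MulAut.conj (ι c * g⁻¹)).toMonoidHom := by
    conv_lhs => rw [hAd, ← hc, Subgroup.map_map,
      show ι.comp (MulAut.conj c).toMonoidHom = (MulAut.conj (ι c)).toMonoidHom.comp ι from
        MonoidHom.ext fun y => by simp, ← Subgroup.map_map, hmap, Subgroup.map_map]
    congr 1
    exact MonoidHom.ext fun y => by simp [mul_assoc]
  have hn : ι c * g⁻¹ ∈ Subgroup.normalizer (A : Set G) := by
    rw [Subgroup.mem_normalizer_iff]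
    intro a
    constructor
    · intro ha
      rw [hA]
      exact ⟨a, ha, rfl⟩
    · intro ha
      rw [hA] at ha
      obtain ⟨a', ha', e⟩ := Subgroup.mem_map.mp ha
      have e' : a' = a := (MulAut.conj (ι c * g⁻¹)).injective e
      rwa [← e']
  refine ⟨(ι c * g⁻¹)⁻¹, inv_mem hn, ?_⟩
  have hcd : ι c * ι d * (ι c)⁻¹ = ι d := by
    rw [← map_inv, ← map_mul, ← map_mul, ← (X.dcent c).eq, mul_inv_cancel_right]
  rw [← hg]
  calc (ι c * g⁻¹)⁻¹ * ι d * (ι c * g⁻¹)⁻¹⁻¹ = g * ((ι c)⁻¹ * (ι c * ι d * (ι c)⁻¹) * ι c) * g⁻¹ := by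
        rw [hcd]; group
    _ = g * ι d * g⁻¹ := by group

/-- The coordinates of a conjugation in the normaliser. -/
theorem coord {n : G} (hn : n ∈ Subgroup.normalizer ((X.A.map ι : Subgroup G) : Set G)) (m : ℕ) (hm : m < 1024) :
    ∃ k < 1024, n * ι (X.vC m) * n⁻¹ = ι (X.vC k) := by
  obtain ⟨_, ⟨k, hk, rfl⟩, e⟩ := (Subgroup.mem_normalizer_iff.mp hn _).mp ⟨X.vC m, ⟨m, hm, rfl⟩, rfl⟩
  exact ⟨k, hk, e.symm⟩

theorem beq_decide (k c : ℕ) : Nat.beq k c = decide (k = c) := by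
  cases h : Nat.beq k c
  · exact (decide_eq_false (Nat.ne_of_beq_eq_false h)).symm
  · exact (decide_eq_true (Nat.eq_of_beq_eq_true h)).symm

omit [Finite G] in
/-- Every vector is in one of seven orbits, and conjugacy to the central involution is constant on them. -/
theorem class_of (m : ℕ) (hm : m < 1024) :
    ∃ k < 7, (∀ k' < 7, bit (oMask X.ka X.kb k') m = decide (k' = k)) ∧
      (IsConj (ι d) (ι (X.vC m)) ↔ IsConj (ι d) (ι (X.vC (oRep X.ka X.kb k)))) := by
  set a := X.ka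
  set b := X.kb
  let Ω : ℕ → Prop := fun m => IsConj (ι d) (ι (X.vC m))
  have hgen : ∀ k < 9, ∀ m < 1024, (Ω (apR (kR a b k) m) ↔ Ω m) := fun k hk m hm => by
    have e : ι (X.vC (apR (kR a b k) m)) = ι (X.el (gW k)) * ι (X.vC m) * (ι (X.el (gW k)))⁻¹ := by
      rw [← map_inv, ← map_mul, ← map_mul, X.conj_vC hk m hm]
    have hcj : IsConj (ι (X.vC m)) (ι (X.vC (apR (kR a b k) m))) := isConj_iff.mpr ⟨_, e.symm⟩
    exact ⟨fun h => h.trans hcj.symm, fun h => h.trans hcj⟩
  have hfollow : ∀ n code v, v < 1024 → ∀ w, follow a b n code v = some w → w < 1024 ∧ (Ω w ↔ Ω v) := by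
    intro n
    induction n with
    | zero =>
      intro code v hv w h
      cases hc : Nat.beq code 0 <;> simp [follow, hc] at h
      subst h
      exact ⟨hv, Iff.rfl⟩
    | succ n ih =>
      intro code v hv w h
      cases hc : Nat.beq code 0
      · cases hk : Nat.blt (code % 16 - 1) 9 <;> simp [follow, hc, hk] at h
        obtain ⟨w', hw', rfl⟩ := h
        obtain ⟨h1, h2⟩ := ih _ v hv w' hw'
        exact ⟨X.kR_lt (blt_iff.mp hk) w', (hgen _ (blt_iff.mp hk) w' h1).trans h2⟩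
      · simp [follow, hc] at h
        subst h
        exact ⟨hv, Iff.rfl⟩
  have horb := (tables a b X.kab).1
  simp only [fOrbit, Bool.and_eq_true, List.all_eq_true, List.mem_range] at horb
  obtain ⟨⟨⟨⟨hlen, hpath⟩, -⟩, -⟩, hrl⟩ := horb
  generalize hLp : oPaths.getD (kIdx a b) [] = Lp at hlen hpath
  have hl : Lp.length = 1024 := Nat.eq_of_beq_eq_true hlen
  have hz : ((List.range 1024).zip Lp)[m]'(by rw [List.length_zip, List.length_range]; omega) =
      (m, Lp[m]'(by omega)) := by simp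
  have h := hpath _ (List.getElem_mem (l := (List.range 1024).zip Lp) (n := m)
    (by rw [List.length_zip, List.length_range]; omega))
  rw [hz] at h
  set code := Lp[m]'(by omega)
  simp only [okPath, Bool.and_eq_true, List.all_eq_true, List.mem_range, beq_iff_eq] at h
  obtain ⟨⟨h1, h2⟩, h3⟩ := h
  refine ⟨code % 8, blt_iff.mp h2, fun k' hk' => ?_, ?_⟩
  · rw [h1 k' hk']
    exact beq_decide _ _
  · cases hf : follow a b 5 (code / 8) (oRep a b (code % 8)) with
    | none => rw [hf] at h3; simp at h3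
    | some w =>
      rw [hf] at h3
      obtain rfl : w = m := Nat.eq_of_beq_eq_true h3
      exact (hfollow _ _ _ (blt_iff.mp (hrl _ (blt_iff.mp h2))) w hf).2

set_option maxHeartbeats 800000 in
include hran hι hC in
/-- A point fixed by the Sylow subgroup with a different count of commutators is not conjugate to the central involution. -/
theorem not_conj_fixed {x : ℕ} (hx : x < 1024) (hxfix : ∀ k < 4, Nat.beq (apR (kR X.ka X.kb (5 + k)) x) x = true)
    (hcnt : Nat.beq ((List.range 64).map (nCom X.ka X.kb 512)).sum ((List.range 64).map (nCom X.ka X.kb x)).sum = false) :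
    ¬ IsConj (ι d) (ι (X.vC x)) := by
  classical
  haveI : Fintype G := Fintype.ofFinite G
  intro hxΩ
  set a := X.ka
  set b := X.kb
  have hxP : ∀ p ∈ X.P, p * X.vC x * p⁻¹ = X.vC x := by
    rintro p ⟨ev, he, i, hi, rfl⟩
    rw [X.conj_rep he hx]
    refine congrArg X.vC ?_
    have hl : ∀ L : List ℕ, (∀ k ∈ L, k < 4) → L.foldr (fun k y => apR (kR a b (5 + k)) y) x = x := by
      intro L
      induction L with
      | nil => intro _; rfl
      | cons k L ih =>
        intro h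
        rw [List.foldr_cons, ih fun j hj => h j (List.mem_cons_of_mem _ hj)]
        exact Nat.eq_of_beq_eq_true (hxfix k (h k (by simp)))
    exact hl _ fun _ hk => seqs_lt _ hk
  obtain ⟨n, hn, hnd⟩ := conj_norm X ι hι hran hC (x := ι (X.vC x)) ⟨_, ⟨x, hx, rfl⟩, rfl⟩ hxΩ
  set A := X.A.map ι
  set P := X.P.map ι with hP
  set N := Subgroup.normalizer (A : Set G)
  let M : Subgroup G := N ⊓ Subgroup.centralizer ({ι (X.vC x)} : Set G)
  have hPN : P ≤ N := by
    rintro _ ⟨p, ⟨ev, he, i, hi, rfl⟩, rfl⟩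
    rw [Subgroup.mem_normalizer_iff']
    intro z
    have key : ∀ m < 1024, ι (X.vC ev * X.sC i) * ι (X.vC m) * (ι (X.vC ev * X.sC i))⁻¹ ∈ A := fun m hm => by
      refine ⟨X.vC (X.act i m), ⟨_, X.act_lt _ hm, rfl⟩, ?_⟩
      rw [← X.conj_rep he hm, map_mul, map_mul, map_inv]
    have hset : ∀ w ∈ A, ι (X.vC ev * X.sC i) * w * (ι (X.vC ev * X.sC i))⁻¹ ∈ A := by
      rintro _ ⟨_, ⟨m, hm, rfl⟩, rfl⟩
      exact key m hm
    have hmem : ι (X.vC ev * X.sC i) ∈ Subgroup.normalizer (A : Set G) := by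
      rw [Subgroup.mem_normalizer_iff]
      intro w
      refine ⟨hset w, fun hw => ?_⟩
      have heq : A.map (MulAut.conj (ι (X.vC ev * X.sC i))).toMonoidHom = A := by
        refine Subgroup.eq_of_le_of_card_ge ?_ ?_
        · rintro _ ⟨y, hy, rfl⟩; exact hset y hy
        · exact (Nat.card_congr (Subgroup.equivMapOfInjective A _
            (MulAut.conj (ι (X.vC ev * X.sC i))).injective).toEquiv).le
      rw [← heq] at hw
      obtain ⟨y, hy, e2⟩ := Subgroup.mem_map.mp hw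
      have : y = w := (MulAut.conj (ι (X.vC ev * X.sC i))).injective e2
      rwa [← this]
    exact (Subgroup.mem_normalizer_iff'.mp hmem) z
  have hPM : P ≤ M := by
    refine le_inf hPN ?_
    rintro _ ⟨p, hp, rfl⟩
    rw [Subgroup.mem_centralizer_singleton_iff, ← map_mul, ← map_mul]
    exact congrArg ι (mul_inv_eq_iff_eq_mul.mp (hxP p hp))
  have hM : ∀ z ∈ M, ∃ c : C, n⁻¹ * z * n = ι c := fun z hz => by
    obtain ⟨c, hc⟩ := hran (n⁻¹ * z * n) (by
      have e1 := Subgroup.mem_centralizer_singleton_iff.mp hz.2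
      rw [← hnd] at e1
      show n⁻¹ * z * n * ι d = ι d * (n⁻¹ * z * n)
      calc n⁻¹ * z * n * ι d = n⁻¹ * (z * (n * ι d * n⁻¹)) * n := by group
        _ = n⁻¹ * (n * ι d * n⁻¹ * z) * n := by rw [e1]
        _ = ι d * (n⁻¹ * z * n) := by group)
    exact ⟨c, hc.symm⟩
  have hnP : P.map (MulAut.conj n).toMonoidHom ≤ M := by
    rintro _ ⟨_, ⟨p, hp, rfl⟩, rfl⟩
    refine ⟨?_, ?_⟩
    · show n * ι p * n⁻¹ ∈ N
      exact mul_mem (mul_mem hn (hPN ⟨p, hp, rfl⟩)) (inv_mem hn)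
    · refine Subgroup.mem_centralizer_singleton_iff.mpr ?_
      rw [← hnd]
      show n * ι p * n⁻¹ * (n * ι d * n⁻¹) = n * ι d * n⁻¹ * (n * ι p * n⁻¹)
      have hc : ι p * ι d = ι d * ι p := by rw [← map_mul, ← map_mul, (X.dcent p).eq]
      calc n * ι p * n⁻¹ * (n * ι d * n⁻¹) = n * (ι p * ι d) * n⁻¹ := by group
        _ = n * (ι d * ι p) * n⁻¹ := by rw [hc]
        _ = _ := by group
  haveI : Fact (Nat.Prime 2) := ⟨Nat.prime_two⟩
  have hcardP : Nat.card P = 2 ^ 16 := by rw [hP, Subgroup.card_map_of_injective hι, X.card_P]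
  have hMdvd : ¬ 2 ^ 17 ∣ Nat.card M := by
    intro h
    let f : M →* C := MonoidHom.mk' (fun z => Classical.choose (hM z z.2)) fun z w => hι (by
      rw [map_mul, ← Classical.choose_spec (hM (z * w : M) (z * w : M).2), ← Classical.choose_spec (hM z z.2),
        ← Classical.choose_spec (hM w w.2), Subgroup.coe_mul]
      group)
    have hf : Function.Injective f := fun z w hzw => Subtype.ext (by
      have h1 := Classical.choose_spec (hM z z.2)
      have h2 := Classical.choose_spec (hM w w.2)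
      rw [show Classical.choose (hM z z.2) = Classical.choose (hM w w.2) from hzw, ← h2] at h1
      exact mul_left_cancel (mul_right_cancel h1))
    have hd := Subgroup.card_dvd_of_injective f hf
    rw [hC] at hd
    have := h.trans hd
    norm_num at this
  have syl : ∀ Q : Subgroup G, Q ≤ M → Nat.card Q = 2 ^ 16 → ∃ S : Sylow 2 M, (S : Subgroup M) = Q.subgroupOf M := by
    intro Q hQ hQc
    have hc : Nat.card (Q.subgroupOf M) = 2 ^ 16 := by
      rw [Nat.card_congr (Subgroup.subgroupOfEquivOfLe hQ).toEquiv, hQc]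
    obtain ⟨S, hS⟩ := (IsPGroup.of_card hc).exists_le_sylow
    refine ⟨S, (Subgroup.eq_of_le_of_card_ge hS ?_).symm⟩
    obtain ⟨j, hj⟩ := S.2.exists_card_eq
    rw [hc, show Nat.card (S : Subgroup M) = 2 ^ j from hj]
    refine Nat.pow_le_pow_right (by norm_num) ?_
    by_contra hlt
    have hd : Nat.card (S : Subgroup M) ∣ Nat.card M := Subgroup.card_subgroup_dvd_card _
    rw [show Nat.card (S : Subgroup M) = 2 ^ j from hj] at hd
    exact hMdvd ((pow_dvd_pow 2 (by omega)).trans hd)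
  obtain ⟨S1, hS1⟩ := syl P hPM hcardP
  obtain ⟨S2, hS2⟩ := syl _ hnP (by rw [Subgroup.card_map_of_injective (MulAut.conj n).injective, hcardP])
  obtain ⟨c, hc⟩ := MulAction.exists_smul_eq M S2 S1
  set h := (c : G) * n with hh
  have hhP : ∀ p ∈ P, h * p * h⁻¹ ∈ P := by
    intro p hp
    have h1 : (⟨n * p * n⁻¹, hnP ⟨p, hp, rfl⟩⟩ : M) ∈ (S2 : Subgroup M) := by
      rw [hS2]; exact Subgroup.mem_subgroupOf.mpr ⟨p, hp, rfl⟩
    have h2 : c * (⟨n * p * n⁻¹, hnP ⟨p, hp, rfl⟩⟩ : M) * c⁻¹ ∈ (S1 : Subgroup M) := by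
      rw [← hc]; exact ⟨_, h1, rfl⟩
    rw [hS1, Subgroup.mem_subgroupOf] at h2
    simp only [Subgroup.coe_mul, Subgroup.coe_inv] at h2
    rwa [hh, show (c : G) * n * p * ((c : G) * n)⁻¹ = (c : G) * (n * p * n⁻¹) * (c : G)⁻¹ by group]
  have hhA : h ∈ N := mul_mem c.2.1 hn
  have hhd : h * ι d * h⁻¹ = ι (X.vC x) := by
    rw [hh, show (c : G) * n * ι d * ((c : G) * n)⁻¹ = (c : G) * (n * ι d * n⁻¹) * (c : G)⁻¹ by group, hnd,
      Subgroup.mem_centralizer_singleton_iff.mp c.2.2, mul_inv_cancel_right]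
  let W : G → Type u := fun z => {py : ↥P × ↥A // (py.1 : G) * py.2 * (py.1 : G)⁻¹ * (py.2 : G)⁻¹ = z}
  have hinj : ∀ (z w : G), h * z * h⁻¹ = w → Nat.card (W z) ≤ Nat.card (W w) := by
    intro z w hzw
    refine Nat.card_le_card_of_injective
      (fun py : W z => (⟨(⟨h * py.1.1 * h⁻¹, hhP _ py.1.1.2⟩, ⟨h * py.1.2 * h⁻¹,
        (Subgroup.mem_normalizer_iff.mp hhA _).mp py.1.2.2⟩), by
          rw [← hzw]; conv_rhs => rw [← py.2]
          group⟩ : W w)) ?_
    intro py qy e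
    have e1 := congrArg (fun v : W w => ((v.1.1 : G), (v.1.2 : G))) e
    simp only [Prod.mk.injEq, mul_left_inj, mul_right_inj] at e1
    exact Subtype.ext (Prod.ext (Subtype.ext e1.1) (Subtype.ext e1.2))
  have hle := hinj _ _ hhd
  have hge : Nat.card (W (ι (X.vC x))) ≤ Nat.card (W (ι d)) := by
    have hP' : ∀ p ∈ P, h⁻¹ * p * h⁻¹⁻¹ ∈ P := fun p hp => by
      have heq : P.map (MulAut.conj h).toMonoidHom = P := by
        refine Subgroup.eq_of_le_of_card_ge ?_ ?_
        · rintro _ ⟨y, hy, rfl⟩; exact hhP y hy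
        · exact (Nat.card_congr (Subgroup.equivMapOfInjective P _ (MulAut.conj h).injective).toEquiv).le
      rw [← heq] at hp
      obtain ⟨y, hy, rfl⟩ := Subgroup.mem_map.mp hp
      simpa [mul_assoc] using hy
    refine Nat.card_le_card_of_injective
      (fun py : W (ι (X.vC x)) => (⟨(⟨h⁻¹ * py.1.1 * h⁻¹⁻¹, hP' _ py.1.1.2⟩, ⟨h⁻¹ * py.1.2 * h⁻¹⁻¹,
        (Subgroup.mem_normalizer_iff.mp (inv_mem hhA) _).mp py.1.2.2⟩), by
          rw [show ι d = h⁻¹ * ι (X.vC x) * h by rw [← hhd]; group]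
          conv_rhs => rw [← py.2]
          group⟩ : W (ι d))) ?_
    intro py qy e
    have e1 := congrArg (fun v : W (ι d) => ((v.1.1 : G), (v.1.2 : G))) e
    simp only [Prod.mk.injEq, mul_left_inj, mul_right_inj] at e1
    exact Subtype.ext (Prod.ext (Subtype.ext e1.1) (Subtype.ext e1.2))
  have hcount : ∀ z < 1024, Nat.card (W (ι (X.vC z))) = 1024 * ((List.range 64).map (nCom a b z)).sum := by
    intro z hz
    let T : Finset (Fin 1024 × Fin 64 × Fin 1024) :=
      Finset.univ.filter fun t => Nat.xor (X.act t.2.1 t.2.2) t.2.2 = z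
    have h1 : Nat.card (W (ι (X.vC z))) = T.card := by
      let φ : T → W (ι (X.vC z)) := fun t =>
        ⟨(⟨ι (X.vC t.1.1 * X.sC t.1.2.1), ⟨_, ⟨_, t.1.1.2, _, t.1.2.1.2, rfl⟩, rfl⟩⟩,
          ⟨ι (X.vC t.1.2.2), ⟨_, ⟨_, t.1.2.2.2, rfl⟩, rfl⟩⟩), by
            have ht := (Finset.mem_filter.mp t.2).2
            show ι _ * ι _ * (ι _)⁻¹ * (ι _)⁻¹ = _
            rw [← map_inv, ← map_inv, ← map_mul, ← map_mul, ← map_mul, X.conj_rep t.1.1.2 t.1.2.2.2, X.vC_inv,
              X.vC_mul, ht]⟩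
      have hφ : Function.Bijective φ := by
        constructor
        · intro s t e
          have e1 := congrArg (fun v : W (ι (X.vC z)) => ((v.1.1 : G), (v.1.2 : G))) e
          simp only [φ, Prod.mk.injEq] at e1
          obtain ⟨h3, h4⟩ := X.rep_inj s.1.1.2 t.1.1.2 s.1.2.1.2 t.1.2.1.2 (hι e1.1)
          have h5 := X.vC_inj s.1.2.2.2 t.1.2.2.2 (hι e1.2)
          exact Subtype.ext (Prod.ext (Fin.ext h3) (Prod.ext (Fin.ext h4) (Fin.ext h5)))
        · rintro ⟨⟨⟨_, p, ⟨ev, he, i, hi, rfl⟩, rfl⟩, ⟨_, _, ⟨m, hm, rfl⟩, rfl⟩⟩, hw⟩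
          have hw' : Nat.xor (X.act i m) m = z := X.vC_inj (xor_lt (n := 10) (X.act_lt _ hm) hm) hz (hι (by
            rw [← X.vC_mul, ← X.conj_rep he hm, ← X.vC_inv m]
            simp only [map_mul, map_inv] at hw ⊢
            rw [← map_inv ι (X.vC m), X.vC_inv] at hw
            rw [← map_inv ι (X.vC m), X.vC_inv]
            exact hw))
          exact ⟨⟨(⟨ev, he⟩, ⟨i, hi⟩, ⟨m, hm⟩), Finset.mem_filter.mpr ⟨Finset.mem_univ _, hw'⟩⟩, rfl⟩
      rw [← Nat.card_congr (Equiv.ofBijective φ hφ), Nat.card_eq_fintype_card, Fintype.card_coe]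
    rw [h1]
    have h2 : T = (Finset.univ : Finset (Fin 1024)) ×ˢ ((Finset.univ : Finset (Fin 64)).sigma
        (fun i => (Finset.univ : Finset (Fin 1024)).filter fun m : Fin 1024 => Nat.xor (X.act i m) m = z)
        |>.map (Equiv.sigmaEquivProd (Fin 64) (Fin 1024)).toEmbedding) := by
      ext ⟨ev, i, m⟩
      simp [T]
    rw [h2, Finset.card_product, Finset.card_map, Finset.card_sigma, Finset.card_univ, Fintype.card_fin]
    refine congrArg (1024 * ·) ?_
    rw [← sum_fin]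
    refine Finset.sum_congr rfl fun i _ => ?_
    exact count_fin 1024 (fun m => Nat.xor (X.act i m) m = z) _ fun y =>
      ⟨Nat.eq_of_beq_eq_true, fun e => by show Nat.beq (Nat.xor (X.act i y) y) z = true; rw [e]; simp⟩
  have e1 := hcount 512 (by norm_num)
  have e2 := hcount x hx
  rw [X.vC_d] at e1
  have e12 : Nat.card (W (ι d)) = Nat.card (W (ι (X.vC x))) := le_antisymm hle hge
  rw [e1, e2] at e12
  exact Nat.ne_of_beq_eq_false hcnt (Nat.eq_of_mul_eq_mul_left (by norm_num) e12)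

include hran hι hC in
/-- The number of sums inside the set is the same at every point of it. -/
theorem lam_eq {M : ℕ} (homg : ∀ m < 1024, (bit M m = true ↔ IsConj (ι d) (ι (X.vC m)))) {r : ℕ} (hr : r < 1024)
    (hΩr : IsConj (ι d) (ι (X.vC r))) : lam M 512 = lam M r := by
  let Ω : ℕ → Prop := fun m => IsConj (ι d) (ι (X.vC m))
  obtain ⟨n, hn, hnd⟩ := conj_norm X ι hι hran hC (x := ι (X.vC r)) ⟨_, ⟨r, hr, rfl⟩, rfl⟩ hΩr
  choose σ hσl hσ using coord X ι hn
  have key : ∀ y, ∀ hy : y < 1024, (Ω (σ y hy) ↔ Ω y) := fun y hy => by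
    have hcj : IsConj (ι (X.vC y)) (ι (X.vC (σ y hy))) := isConj_iff.mpr ⟨n, hσ y hy⟩
    exact ⟨fun h => h.trans hcj.symm, fun h => h.trans hcj⟩
  have hxor : ∀ y (hy : y < 1024), σ (Nat.xor 512 y) (xor_lt (n := 10) (by norm_num) hy) = Nat.xor r (σ y hy) := by
    intro y hy
    refine X.vC_inj (hσl _ _) (xor_lt (n := 10) hr (hσl _ _)) (hι ?_)
    rw [← hσ, ← X.vC_mul, ← X.vC_mul, map_mul, map_mul, X.vC_d, ← hnd, ← hσ y hy]
    group
  have hcp : ∀ z, lam M z = ((Finset.range 1024).filter fun y =>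
      bit M y = true ∧ bit M (Nat.xor z y) = true).card := fun z => by
    exact count_range 1024 _ _ fun y => by simp
  rw [hcp, hcp]
  refine Finset.card_bij (fun y hy => σ y (Finset.mem_range.mp (Finset.mem_filter.mp hy).1)) ?_ ?_ ?_
  · intro y hy
    obtain ⟨h1, h2, h3⟩ := Finset.mem_filter.mp hy
    have hy' := Finset.mem_range.mp h1
    have hy2 : Nat.xor 512 y < 1024 := xor_lt (n := 10) (by norm_num) hy'
    refine Finset.mem_filter.mpr ⟨Finset.mem_range.mpr (hσl _ _), (homg _ (hσl _ _)).mpr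
      ((key y hy').mpr ((homg y hy').mp h2)), ?_⟩
    rw [← hxor y hy']
    exact (homg _ (hσl _ _)).mpr ((key _ hy2).mpr ((homg _ hy2).mp h3))
  · intro y hy y' hy' e
    have hy1 := Finset.mem_range.mp (Finset.mem_filter.mp hy).1
    have hy2 := Finset.mem_range.mp (Finset.mem_filter.mp hy').1
    have e1 := hσ y hy1
    rw [e, ← hσ y' hy2] at e1
    exact X.vC_inj hy1 hy2 (hι (mul_left_cancel (mul_right_cancel e1)))
  · intro y hy
    obtain ⟨h1, h2, h3⟩ := Finset.mem_filter.mp hy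
    have hy' := Finset.mem_range.mp h1
    obtain ⟨y₀, hy₀, he₀⟩ := coord X ι (inv_mem hn) y hy'
    have hσy : σ y₀ hy₀ = y := X.vC_inj (hσl _ _) hy' (hι (by rw [← hσ, ← he₀]; group))
    refine ⟨y₀, Finset.mem_filter.mpr ⟨Finset.mem_range.mpr hy₀, (homg _ hy₀).mpr ((key y₀ hy₀).mp ?_), ?_⟩, hσy⟩
    · rw [hσy]; exact (homg y hy').mp h2
    · have hy3 : Nat.xor 512 y₀ < 1024 := xor_lt (n := 10) (by norm_num) hy₀
      refine (homg _ hy3).mpr ((key _ hy3).mp ((homg _ (hσl _ _)).mp ?_))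
      rw [hxor y₀ hy₀, hσy]
      exact h3

include hran hι hC in
/-- The conjugates of the central involution in the subgroup number twenty-two. -/
theorem count_conj (hnwc : ∃ x : G, IsConj (ι d) x ∧ Commute x (ι d) ∧ x ≠ ι d) :
    Set.ncard {x : G | x ∈ X.A.map ι ∧ IsConj (ι d) x} = 22 := by
  classical
  haveI : Fintype G := Fintype.ofFinite G
  set a := X.ka
  set b := X.kb
  obtain ⟨horb, hlam, hfix, hmid⟩ := tables a b X.kab
  let Ω : ℕ → Prop := fun m => IsConj (ι d) (ι (X.vC m))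
  simp only [fOrbit, Bool.and_eq_true, List.all_eq_true, List.mem_range] at horb
  obtain ⟨⟨⟨⟨hlen, hpath⟩, hr0⟩, hr1⟩, hrl⟩ := horb
  have hclass := class_of X ι
  have hne0 : ¬ Ω (oRep a b 0) := by
    rw [Nat.eq_of_beq_eq_true hr0]
    show ¬ IsConj (ι d) (ι (X.vC 0))
    rw [X.vC_zero, map_one]
    intro h
    exact X.dne (hι ((isConj_one_right.mp h.symm).trans (map_one ι).symm))
  have hΩd : Ω 512 := by show IsConj (ι d) (ι (X.vC 512)); rw [X.vC_d]
  obtain ⟨o, ho⟩ := bits_exist fun k => decide (Ω (oRep a b ((k : ℕ) + 2)))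
  have homg : ∀ m < 1024, (bit (omg a b o) m = true ↔ Ω m) := by
    intro m hm
    obtain ⟨k, hk, hbits, hΩ⟩ := hclass m hm
    rw [omg, bit_foldl, Bool.or_eq_true, List.any_eq_true, hbits 1 (by norm_num), show Ω m ↔ Ω (oRep a b k) from hΩ]
    constructor
    · rintro (h | ⟨j, hj, h⟩)
      · rw [← of_decide_eq_true h, Nat.eq_of_beq_eq_true hr1]; exact hΩd
      · rw [Bool.and_eq_true, hbits (j + 2) (by simp at hj; omega), decide_eq_true_eq] at h
        have h1 := ho ⟨j, List.mem_range.mp hj⟩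
        rw [h.1] at h1
        have := of_decide_eq_true h1.symm
        rwa [h.2] at this
    · intro h
      rcases (show k = 0 ∨ k = 1 ∨ 2 ≤ k by omega) with rfl | rfl | h2
      · exact absurd h hne0
      · exact Or.inl rfl
      · refine Or.inr ⟨k - 2, List.mem_range.mpr (by omega), ?_⟩
        rw [Bool.and_eq_true, hbits (k - 2 + 2) (by omega)]
        refine ⟨?_, decide_eq_true (by omega)⟩
        rw [show bit o (k - 2) = _ from ho ⟨k - 2, by omega⟩, decide_eq_true_eq]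
        rwa [show k - 2 + 2 = k by omega]
  have ho0 : (o : ℕ) ≠ 0 := by
    intro e
    obtain ⟨x, hx1, hx2, hx3⟩ := hnwc
    obtain ⟨x₀, rfl⟩ := hran x hx2
    have hsq : x₀ * x₀ = 1 := hι (by
      obtain ⟨g, hg⟩ := isConj_iff.mp hx1
      rw [map_mul, map_one, ← hg, show g * ι d * g⁻¹ * (g * ι d * g⁻¹) = g * ι (d * d) * g⁻¹ by rw [map_mul]; group,
        X.dsq, map_one, mul_one, mul_inv_cancel])
    obtain ⟨c, m, hm, hcm⟩ := invol_conj X hC hsq
    have hΩm : Ω m := by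
      show IsConj (ι d) (ι (X.vC m))
      rw [← hcm, map_mul, map_mul, map_inv]
      exact hx1.trans (isConj_iff.mpr ⟨ι c, rfl⟩)
    have hbm := (homg m hm).mpr hΩm
    rw [omg, bit_foldl, e] at hbm
    simp only [bit_zero, Bool.false_and, Bool.or_eq_true, List.any_eq_true, hmid, bit_pow, decide_eq_true_eq,
      Bool.false_eq_true, and_false, exists_false, or_false] at hbm
    rw [← hbm, X.vC_d] at hcm
    exact hx3 (by
      have : x₀ = d := by
        rw [← (show c⁻¹ * (c * x₀ * c⁻¹) * c = x₀ by group), hcm, ← (X.dcent c⁻¹).eq, inv_mul_cancel_right]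
      rw [this])
  have ho31 : (o : ℕ) ≠ 31 := by
    intro e
    simp only [fFixed, Bool.and_eq_true, List.all_eq_true, List.mem_range, Bool.not_eq_true'] at hfix
    obtain ⟨⟨⟨⟨hxlt, hxin⟩, hxne⟩, hxfix⟩, hcnt⟩ := hfix
    set x := xPt a b
    have hx : x < 1024 := blt_iff.mp hxlt
    have hxΩ : Ω x := (homg x hx).mp (by rw [e]; exact hxin)
    exact not_conj_fixed X ι hι hran hC hx hxfix hcnt hxΩ
  have hlamEq := fun r hr hΩr => lam_eq X ι hι hran hC (M := omg a b o) homg (r := r) hr hΩr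
  simp only [fLam, List.all_eq_true, List.mem_range, Bool.or_eq_true, List.any_eq_true, Bool.and_eq_true,
    Bool.not_eq_true'] at hlam
  rcases hlam o o.2 with ((h | h) | h) | ⟨k, hk, hbk, hne⟩
  · exact absurd (Nat.eq_of_beq_eq_true h) ho0
  · exact absurd (Nat.eq_of_beq_eq_true h) ho31
  · have hset : {x : G | x ∈ X.A.map ι ∧ IsConj (ι d) x} =
        ↑(((Finset.range 1024).filter fun m => bit (omg a b o) m = true).image fun m => ι (X.vC m)) := by
      ext z
      simp only [Set.mem_setOf_eq, Finset.coe_image, Set.mem_image, Finset.mem_coe, Finset.mem_filter, Finset.mem_range]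
      constructor
      · rintro ⟨⟨_, ⟨m, hm, rfl⟩, rfl⟩, hz⟩
        exact ⟨m, ⟨hm, (homg m hm).mpr hz⟩, rfl⟩
      · rintro ⟨m, ⟨hm, hb⟩, rfl⟩
        exact ⟨⟨_, ⟨m, hm, rfl⟩, rfl⟩, (homg m hm).mp hb⟩
    rw [hset, Set.ncard_coe_finset, Finset.card_image_of_injOn fun m hm k hk e =>
      X.vC_inj (Finset.mem_range.mp (Finset.mem_filter.mp hm).1) (Finset.mem_range.mp (Finset.mem_filter.mp hk).1) (hι e)]
    rw [← Nat.eq_of_beq_eq_true h]
    exact (count_range 1024 _ _ fun y => Iff.rfl).symm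
  · exfalso
    refine Nat.ne_of_beq_eq_false hne (hlamEq _ (blt_iff.mp (hrl (k + 2) (by omega))) ?_)
    have := ho ⟨k, hk⟩
    rw [hbk] at this
    exact of_decide_eq_true this.symm

end CfsgLib.CosetEnum.U62Thompson
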