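/-
The Thompson subgroup of a Sylow 2-subgroup of the centraliser of an involution of type 2.U6(2).
-/
import Cfsg.Agent.Lib.CosetEnum.U62Thompson.Fusion
import Cfsg.Agent.Lib.CosetEnum.U62Thompson.Exists
import Cfsg.Prelude.Def_Transfer
import Cfsg.Prelude.Def_CaseTheorems

set_option autoImplicit false
set_option maxRecDepth 1000000

universe u

namespace CfsgLib.CosetEnum.U62Thompson

open Cfsg U62Mult

attribute [local irreducible] Fi22Mult.gU Fi22Mult.dCoord

theorem thompson_conjugates {G : Type u} [Group G] [Finite G] (d : G) (hd : orderOf d = 2)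
    (hq : Cfsg.IsQuasisimple ↥(Subgroup.centralizer ({d} : Set G)))
    [hzn : ((Subgroup.zpowers d).subgroupOf (Subgroup.centralizer ({d} : Set G))).Normal]
    (K : Type) [Field K] [Fintype K] (hK : Fintype.card K = 4)
    (e : ↥(Subgroup.centralizer ({d} : Set G)) ⧸ (Subgroup.zpowers d).subgroupOf (Subgroup.centralizer ({d} : Set G)) ≃*
      Cfsg.PSU 6 K 2)
    (hnwc : ∃ g : G, g * d * g⁻¹ ∈ Subgroup.centralizer ({d} : Set G) ∧ g * d * g⁻¹ ≠ d)
    (S : Sylow 2 ↥(Subgroup.centralizer ({d} : Set G))) (A : Subgroup G)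
    (hA : A = (Cfsg.thompsonSubgroupOf 2 (S : Subgroup ↥(Subgroup.centralizer ({d} : Set G)))).map
      (Subgroup.centralizer ({d} : Set G)).subtype) :
    Cfsg.IsElementaryAbelian 2 A ∧ Nat.card A = 2 ^ 10 ∧ Set.ncard {x : G | x ∈ A ∧ IsConj d x} = 22 ∧
      ∀ x ∈ A, ∀ y ∈ A, IsConj d x → IsConj d y → ∃ n ∈ Subgroup.normalizer (A : Set G), n * x * n⁻¹ = y := by
  classical
  have hdm : d ∈ (Subgroup.centralizer ({d} : Set G)) := Subgroup.mem_centralizer_singleton_iff.mpr rfl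
  set d' : ↥(Subgroup.centralizer ({d} : Set G)) := ⟨d, hdm⟩
  have hd2 : d * d = 1 := by rw [← pow_two, ← hd, pow_orderOf_eq_one]
  have hd1 : d ≠ 1 := fun h => by rw [h, orderOf_one] at hd; omega
  let q : ↥(Subgroup.centralizer ({d} : Set G)) →* Cfsg.PSU 6 K 2 := e.toMonoidHom.comp (QuotientGroup.mk' ((Subgroup.zpowers d).subgroupOf (Subgroup.centralizer ({d} : Set G))))
  have hker : ∀ c : ↥(Subgroup.centralizer ({d} : Set G)), q c = 1 ↔ c = 1 ∨ c = d' := fun c => by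
    show e _ = 1 ↔ _
    rw [MulEquiv.map_eq_one_iff, QuotientGroup.mk'_apply, QuotientGroup.eq_one_iff, Subgroup.mem_subgroupOf]
    constructor
    · intro hh
      obtain ⟨k, hk⟩ := Subgroup.mem_zpowers_iff.mp hh
      rcases Int.even_or_odd k with ⟨m, rfl⟩ | ⟨m, rfl⟩
      · exact Or.inl (Subtype.ext (by rw [← hk, ← two_mul, zpow_mul, zpow_two, hd2, one_zpow]; rfl))
      · exact Or.inr (Subtype.ext (by rw [← hk, zpow_add_one, zpow_mul, zpow_two, hd2, one_zpow, one_mul]))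
    · rintro (rfl | rfl)
      exacts [one_mem _, Subgroup.mem_zpowers _]
  obtain ⟨π, ⟨X⟩, hC⟩ := exists_ctx hK q (e.surjective.comp (QuotientGroup.mk'_surjective _)) (d := d')
    (fun h => hd1 (congrArg Subtype.val h)) (Subtype.ext hd2)
    (fun c => Subtype.ext (Subgroup.mem_centralizer_singleton_iff.mp c.2).symm) hker
    (by haveI := hq.1; exact Group.IsPerfect.commutator_eq_top)
  haveI : Fact (Nat.Prime 2) := ⟨Nat.prime_two⟩
  obtain ⟨c, hc⟩ := conj_into X hC (Q := (S : Subgroup ↥(Subgroup.centralizer ({d} : Set G)))) S.2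
  have hSP : (S : Subgroup ↥(Subgroup.centralizer ({d} : Set G))).map (MulAut.conj c).toMonoidHom = X.P := by
    refine Subgroup.eq_of_le_of_card_ge hc ?_
    obtain ⟨S₀, hS₀⟩ := (IsPGroup.of_card (n := 16) X.card_P).exists_le_sylow
    obtain ⟨x, hx⟩ := MulAction.exists_smul_eq ↥(Subgroup.centralizer ({d} : Set G)) S₀ S
    have h1 : Nat.card X.P ≤ Nat.card (S₀ : Subgroup ↥(Subgroup.centralizer ({d} : Set G))) :=
      Nat.card_le_card_of_injective _ (Subgroup.inclusion_injective hS₀)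
    refine h1.trans (le_of_eq ?_)
    rw [← hx]
    exact (Nat.card_congr (Sylow.equivSMul _ _).toEquiv).trans
      (Nat.card_congr (Subgroup.equivMapOfInjective _ _ (MulAut.conj c).injective).toEquiv)
  set φ : ↥(Subgroup.centralizer ({d} : Set G)) →* ↥(Subgroup.centralizer ({d} : Set G)) := (MulAut.conj c⁻¹).toMonoidHom
  set ι : ↥(Subgroup.centralizer ({d} : Set G)) →* G := (Subgroup.centralizer ({d} : Set G)).subtype.comp φ
  have hι : Function.Injective ι := Subtype.val_injective.comp (MulAut.conj c⁻¹).injective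
  have hιd : ι d' = d := by
    show ((c⁻¹ * d' * c⁻¹⁻¹ : ↥(Subgroup.centralizer ({d} : Set G))) : G) = d
    rw [← (X.dcent c⁻¹).eq, mul_inv_cancel_right]
  have hran : ∀ x : G, Commute x (ι d') → x ∈ ι.range := by
    intro x hx
    rw [hιd] at hx
    obtain ⟨y, hy⟩ := (MulAut.conj c⁻¹).surjective ⟨x, Subgroup.mem_centralizer_singleton_iff.mpr hx.eq⟩
    exact ⟨y, congrArg Subtype.val hy⟩
  set A' : Subgroup ↥(Subgroup.centralizer ({d} : Set G)) := X.A.map φ
  have hA'S : A' ≤ S := by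
    rintro _ ⟨a, ha, rfl⟩
    have h := X.A_le_P ha
    rw [← hSP] at h
    obtain ⟨s, hs, rfl⟩ := h
    show c⁻¹ * (c * s * c⁻¹) * c⁻¹⁻¹ ∈ (S : Subgroup ↥(Subgroup.centralizer ({d} : Set G)))
    rw [show c⁻¹ * (c * s * c⁻¹) * c⁻¹⁻¹ = s by group]
    exact hs
  have hA'c : Nat.card A' = 1024 := by
    rw [← Nat.card_congr (Subgroup.equivMapOfInjective _ φ (MulAut.conj c⁻¹).injective).toEquiv, X.card_A]
  have hA'e : Cfsg.IsElementaryAbelian 2 A' := by
    refine ⟨⟨⟨fun a b => Subtype.ext ?_⟩⟩, ?_⟩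
    · obtain ⟨a₀, ha, e1⟩ := Subgroup.mem_map.mp a.2
      obtain ⟨b₀, hb, e2⟩ := Subgroup.mem_map.mp b.2
      show (a : ↥(Subgroup.centralizer ({d} : Set G))) * b = b * a
      rw [← e1, ← e2, ← map_mul, ← map_mul]
      exact congrArg φ (congrArg Subtype.val (X.A_elem.1.is_comm.comm ⟨a₀, ha⟩ ⟨b₀, hb⟩))
    · rintro a ha
      obtain ⟨a₀, ha₀, rfl⟩ := Subgroup.mem_map.mp ha
      rw [← map_pow, X.A_elem.2 a₀ ha₀, map_one]
  have hbig : ∀ B : Subgroup ↥(S : Subgroup ↥(Subgroup.centralizer ({d} : Set G))), Cfsg.IsElementaryAbelian 2 B → Nat.card B ≤ 1024 ∧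
      (1024 ≤ Nat.card B → B = A'.subgroupOf S) := by
    intro B hB
    set B' := (B.map (S : Subgroup ↥(Subgroup.centralizer ({d} : Set G))).subtype).map (MulAut.conj c).toMonoidHom
    have hcard : Nat.card B' = Nat.card B :=
      ((Nat.card_congr (Subgroup.equivMapOfInjective _ _ Subtype.val_injective).toEquiv).trans
        (Nat.card_congr (Subgroup.equivMapOfInjective _ _ (MulAut.conj c).injective).toEquiv)).symm
    have hle : B' ≤ X.P := by
      rw [← hSP]
      exact Subgroup.map_mono (Subgroup.map_subtype_le B)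
    have hB' : Cfsg.IsElementaryAbelian 2 B' := by
      refine ⟨⟨⟨fun a b => Subtype.ext ?_⟩⟩, ?_⟩
      · obtain ⟨_, ⟨a₀, ha, rfl⟩, e1⟩ := Subgroup.mem_map.mp a.2
        obtain ⟨_, ⟨b₀, hb, rfl⟩, e2⟩ := Subgroup.mem_map.mp b.2
        show (a : ↥(Subgroup.centralizer ({d} : Set G))) * b = b * a
        rw [← e1, ← e2, ← map_mul, ← map_mul, ← map_mul, ← map_mul]
        exact congrArg _ (congrArg _ (congrArg Subtype.val (hB.1.is_comm.comm ⟨a₀, ha⟩ ⟨b₀, hb⟩)))
      · rintro a ha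
        obtain ⟨_, ⟨a₀, ha₀, rfl⟩, rfl⟩ := Subgroup.mem_map.mp ha
        rw [← map_pow, ← map_pow, hB.2 a₀ ha₀, map_one, map_one]
    refine ⟨hcard ▸ (elem_conj X hC hB').1, fun h => ?_⟩
    have heq := X.elem_eq hB' hle (by rw [hcard]; exact h)
    refine Subgroup.map_injective (S : Subgroup ↥(Subgroup.centralizer ({d} : Set G))).subtype_injective ?_
    rw [Subgroup.map_subgroupOf_eq_of_le hA'S]
    show _ = X.A.map φ
    rw [← heq, Subgroup.map_map]
    conv_lhs => rw [← Subgroup.map_id (B.map (S : Subgroup ↥(Subgroup.centralizer ({d} : Set G))).subtype)]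
    congr 1
    exact MonoidHom.ext fun y => by simp [φ, mul_assoc]
  have hJ : Cfsg.thompsonSubgroupOf 2 (S : Subgroup ↥(Subgroup.centralizer ({d} : Set G))) = A' := by
    have hmem : Cfsg.IsElementaryAbelian 2 (A'.subgroupOf S) := by
      refine ⟨⟨⟨fun a b => Subtype.ext (Subtype.ext ?_)⟩⟩, fun a ha => Subtype.ext ?_⟩
      · exact congrArg (fun t : ↥A' => (t : ↥(Subgroup.centralizer ({d} : Set G)))) (hA'e.1.is_comm.comm ⟨_, a.2⟩ ⟨_, b.2⟩)
      · exact hA'e.2 _ (Subgroup.mem_subgroupOf.mp ha)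
    have hset : Cfsg.maxElementaryAbelianSubgroups 2 ↥(S : Subgroup ↥(Subgroup.centralizer ({d} : Set G))) = {A'.subgroupOf S} := by
      ext B
      have hc0 : Nat.card (A'.subgroupOf (S : Subgroup ↥(Subgroup.centralizer ({d} : Set G)))) = 1024 := by
        rw [Nat.card_congr (Subgroup.subgroupOfEquivOfLe hA'S).toEquiv, hA'c]
      refine ⟨fun hB => (hbig B hB.1).2 (hc0 ▸ hB.2 _ hmem), fun hB => ?_⟩
      obtain rfl : B = A'.subgroupOf S := hB
      exact ⟨hmem, fun B' hB' => hc0.symm ▸ (hbig B' hB').1⟩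
    rw [Cfsg.thompsonSubgroupOf, Cfsg.thompsonSubgroup, hset, sSup_singleton, Subgroup.map_subgroupOf_eq_of_le hA'S]
  have hAι : A = X.A.map ι := by rw [hA, hJ]; exact Subgroup.map_map _ _ _
  have hcount := count_conj X ι hι hran hC (by
    obtain ⟨g, hg1, hg2⟩ := hnwc
    refine ⟨g * d * g⁻¹, ?_, ?_, ?_⟩
    · rw [hιd]; exact isConj_iff.mpr ⟨g, rfl⟩
    · rw [hιd]; exact Subgroup.mem_centralizer_singleton_iff.mp hg1
    · rw [hιd]; exact hg2)
  rw [hιd] at hcount
  rw [hAι]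
  refine ⟨⟨⟨⟨fun a b => Subtype.ext ?_⟩⟩, ?_⟩, ?_, hcount, ?_⟩
  · obtain ⟨a₀, ha, e1⟩ := Subgroup.mem_map.mp a.2
    obtain ⟨b₀, hb, e2⟩ := Subgroup.mem_map.mp b.2
    show (a : G) * b = b * a
    rw [← e1, ← e2, ← map_mul, ← map_mul]
    exact congrArg ι (congrArg Subtype.val (X.A_elem.1.is_comm.comm ⟨a₀, ha⟩ ⟨b₀, hb⟩))
  · rintro a ha
    obtain ⟨a₀, ha₀, rfl⟩ := Subgroup.mem_map.mp ha
    rw [← map_pow, X.A_elem.2 a₀ ha₀, map_one]
  · rw [← Nat.card_congr (Subgroup.equivMapOfInjective _ ι hι).toEquiv, X.card_A]; norm_num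
  · intro x hx y hy hdx hdy
    obtain ⟨n, hn, rfl⟩ := conj_norm X ι hι hran hC hx (by rw [hιd]; exact hdx)
    obtain ⟨m, hm, rfl⟩ := conj_norm X ι hι hran hC hy (by rw [hιd]; exact hdy)
    exact ⟨m * n⁻¹, mul_mem hm (inv_mem hn), by group⟩

end CfsgLib.CosetEnum.U62Thompson
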